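import Cfsg.Agent.H3.PBasic
import Cfsg.Agent.H8.PComplement

/-! Counting conjugacy classes of `π`-elements. -/

set_option autoImplicit false

namespace Cfsg.Agent.H3

open Subgroup Finset

variable {G : Type*} [Group G]

/-- The number of fibres of a map is the sum of the reciprocals of the fibre sizes. -/
theorem card_image_eq_sum_inv {α β : Type*} [DecidableEq β] (s : Finset α) (φ : α → β) :
    ((s.image φ).card : ℚ) = ∑ x ∈ s, (((s.filter fun y => φ y = φ x).card : ℚ))⁻¹ := by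
  rw [← sum_fiberwise_of_maps_to (g := φ) (t := s.image φ) (fun x hx => mem_image_of_mem φ hx),
    card_eq_sum_ones]
  push_cast
  refine sum_congr rfl fun c hc => ?_
  rw [sum_congr rfl (g := fun _ => (((s.filter fun y => φ y = c).card : ℚ))⁻¹)
    (fun x hx => by rw [(mem_filter.mp hx).2]), sum_const, nsmul_eq_mul, mul_inv_cancel₀]
  obtain ⟨x, hx, rfl⟩ := mem_image.mp hc
  have : x ∈ s.filter fun y => φ y = φ x := mem_filter.mpr ⟨hx, rfl⟩
  exact_mod_cast (card_pos.mpr ⟨x, this⟩).ne'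

/-- The number of conjugacy classes consisting of elements with property `Q`. -/
noncomputable def kcl (Q : G → Prop) : ℕ :=
  Nat.card {c : ConjClasses G // ∀ x ∈ c.carrier, Q x}

/-- The number of conjugacy classes of `π`-elements. -/
noncomputable def kpi (π : Set ℕ) (G : Type*) [Group G] : ℕ :=
  kcl (fun x : G => ∀ r : ℕ, r.Prime → r ∣ orderOf x → r ∈ π)

theorem orderOf_eq_of_isConj {x y : G} (h : IsConj x y) : orderOf x = orderOf y := by
  obtain ⟨c, rfl⟩ := isConj_iff.mp h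
  exact ((MulAut.conj c).orderOf_eq x).symm

theorem forall_mem_carrier_mk {Q : ℕ → Prop} {x : G} :
    (∀ y ∈ (ConjClasses.mk x).carrier, Q (orderOf y)) ↔ Q (orderOf x) := by
  refine ⟨fun h => h x ConjClasses.mem_carrier_mk, fun h y hy => ?_⟩
  rw [ConjClasses.mem_carrier_iff_mk_eq, ConjClasses.mk_eq_mk_iff_isConj] at hy
  rwa [orderOf_eq_of_isConj hy]

theorem kcl_eq_card_image [Finite G] [DecidableEq (ConjClasses G)] {Q : G → Prop} (s : Finset G)
    (h1 : ∀ x ∈ s, ∀ y, IsConj x y → Q y) (h2 : ∀ x, Q x → ∃ y ∈ s, IsConj x y) :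
    kcl Q = (s.image ConjClasses.mk).card := by
  rw [kcl, ← Nat.card_eq_finsetCard]
  refine Nat.card_congr (Equiv.subtypeEquivRight fun c => ?_)
  obtain ⟨x, rfl⟩ := ConjClasses.mk_surjective c
  constructor
  · intro h
    obtain ⟨y, hy, hxy⟩ := h2 x (h x ConjClasses.mem_carrier_mk)
    exact mem_image.mpr ⟨y, hy, (ConjClasses.mk_eq_mk_iff_isConj.mpr hxy).symm⟩
  · intro h y hy
    obtain ⟨z, hz, hzx⟩ := mem_image.mp h
    rw [ConjClasses.mem_carrier_iff_mk_eq, ← hzx, ConjClasses.mk_eq_mk_iff_isConj] at hy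
    exact h1 z hz y hy.symm

theorem exists_isConj_mem_sylow [Finite G] {p : ℕ} [Fact p.Prime] (P : Sylow p G) {x : G} {k : ℕ}
    (hx : orderOf x = p ^ k) : ∃ y ∈ (P : Subgroup G), IsConj x y := by
  obtain ⟨Q, hQ⟩ := (H8.isPGroup_zpowers_of_orderOf hx).exists_le_sylow
  obtain ⟨g, rfl⟩ := MulAction.exists_smul_eq G Q P
  exact ⟨g * x * g⁻¹, Set.smul_mem_smul_set (a := MulAut.conj g) (hQ (mem_zpowers x)),
    isConj_iff.mpr ⟨g, rfl⟩⟩

open Classical in
/-- The number of classes of `p`-elements as a sum over a Sylow subgroup. -/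
theorem kcl_eq_sum_sylow [Fintype G] {p : ℕ} [Fact p.Prime] (P : Sylow p G) :
    (kcl (fun x : G => ∃ k : ℕ, orderOf x = p ^ k) : ℚ) =
      ∑ x ∈ univ.filter (· ∈ (P : Subgroup G)),
        (((univ.filter fun y => y ∈ (P : Subgroup G) ∧ IsConj y x).card : ℚ))⁻¹ := by
  rw [kcl_eq_card_image (univ.filter (· ∈ (P : Subgroup G))), card_image_eq_sum_inv]
  · refine sum_congr rfl fun x _ => ?_
    rw [filter_filter]
    simp only [ConjClasses.mk_eq_mk_iff_isConj]
  · intro x hx y hxy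
    rw [← orderOf_eq_of_isConj hxy]
    exact H8.exists_orderOf_eq_pow_of_mem P.isPGroup' (mem_filter.mp hx).2
  · rintro x ⟨k, hk⟩
    obtain ⟨y, hy, h⟩ := exists_isConj_mem_sylow P hk
    exact ⟨y, mem_filter.mpr ⟨mem_univ y, hy⟩, h⟩

theorem card_filter_mem_subgroup [Fintype G] (H : Subgroup G) [DecidablePred (· ∈ H)] :
    (univ.filter (· ∈ H)).card = Nat.card H := by
  rw [Nat.card_eq_fintype_card, Fintype.card_subtype]

theorem kpi_singleton [Finite G] {p : ℕ} (hp : p.Prime) :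
    kpi {p} G = kcl (fun x : G => ∃ k : ℕ, orderOf x = p ^ k) := by
  unfold kpi
  congr 1
  ext x
  constructor
  · intro h
    exact ⟨_, Nat.eq_prime_pow_of_unique_prime_dvd (orderOf_pos x).ne' fun hr hd => h _ hr hd⟩
  · rintro ⟨k, hk⟩ r hr hd
    rw [hk] at hd
    exact (Nat.prime_dvd_prime_iff_eq hr hp).mp (hr.dvd_of_dvd_pow hd)

theorem kcl_le_card_sylow [Finite G] {p : ℕ} [Fact p.Prime] (P : Sylow p G) :
    kcl (fun x : G => ∃ k : ℕ, orderOf x = p ^ k) ≤ Nat.card P := by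
  classical
  haveI := Fintype.ofFinite G
  rw [kcl_eq_card_image (univ.filter (· ∈ (P : Subgroup G)))]
  · exact card_image_le.trans (card_filter_mem_subgroup _).le
  · intro x hx y hxy
    rw [← orderOf_eq_of_isConj hxy]
    exact H8.exists_orderOf_eq_pow_of_mem P.isPGroup' (mem_filter.mp hx).2
  · rintro x ⟨k, hk⟩
    obtain ⟨y, hy, h⟩ := exists_isConj_mem_sylow P hk
    exact ⟨y, mem_filter.mpr ⟨mem_univ y, hy⟩, h⟩

theorem natCard_le_natCard_mul {α β : Type*} [Finite α] [Finite β] (φ : α → β) (B : ℕ)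
    (h : ∀ b, Nat.card {a // φ a = b} ≤ B) : Nat.card α ≤ Nat.card β * B := by
  haveI := Fintype.ofFinite β
  rw [← Nat.card_congr (Equiv.sigmaFiberEquiv φ), Nat.card_sigma]
  calc ∑ b, Nat.card {a // φ a = b} ≤ ∑ _b : β, B := sum_le_sum fun b _ => h b
    _ = Nat.card β * B := by simp

/-- `k_π(G) ≤ k_r(G) · max k_{π \ r}(C_G(x))`. -/
theorem kpi_le_mul [Finite G] {π : Set ℕ} {r : ℕ} (hr : r.Prime) (B : ℕ)
    (hB : ∀ x : G, (∃ k : ℕ, orderOf x = r ^ k) →
      kpi (π \ {r}) (centralizer ({x} : Set G)) ≤ B) :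
    kpi π G ≤ kcl (fun x : G => ∃ k : ℕ, orderOf x = r ^ k) * B := by
  have hex : ∀ c : {c : ConjClasses G // ∀ x ∈ c.carrier, ∀ q : ℕ, q.Prime → q ∣ orderOf x → q ∈ π},
      ∃ a b : G, c.1 = ConjClasses.mk (a * b) ∧ Commute a b ∧ (∃ k : ℕ, orderOf a = r ^ k) ∧
        ∀ q : ℕ, q.Prime → q ∣ orderOf b → q ∈ π \ {r} := by
    rintro ⟨c, hc⟩
    obtain ⟨g, rfl⟩ := ConjClasses.mk_surjective c
    obtain ⟨a, b, -, hb, hab, hcomm, ha, hbr⟩ := H8.exists_pPart_pPrimePart hr g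
    refine ⟨a, b, by rw [← hab], hcomm, ha, fun q hq hqb => ⟨hc g ConjClasses.mem_carrier_mk q hq
      (hqb.trans (orderOf_dvd_of_mem_zpowers hb)), ?_⟩⟩
    rintro rfl
    exact (hq.coprime_iff_not_dvd.mp hbr.symm) hqb
  choose a b hab hcomm ha hb using hex
  unfold kpi kcl
  refine natCard_le_natCard_mul (fun c => ⟨ConjClasses.mk (a c),
    (forall_mem_carrier_mk (Q := fun n => ∃ k : ℕ, n = r ^ k)).mpr (ha c)⟩) B ?_
  rintro ⟨d, hd⟩
  obtain ⟨x, rfl⟩ := ConjClasses.mk_surjective d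
  refine le_trans ?_ (hB x (hd x ConjClasses.mem_carrier_mk))
  have hex2 : ∀ c : {c // (⟨ConjClasses.mk (a c),
      (forall_mem_carrier_mk (Q := fun n => ∃ k : ℕ, n = r ^ k)).mpr (ha c)⟩ :
        {c : ConjClasses G // ∀ x ∈ c.carrier, ∃ k : ℕ, orderOf x = r ^ k}) = ⟨_, hd⟩},
      ∃ y : centralizer ({x} : Set G), c.1.1 = ConjClasses.mk (x * y) ∧
        ∀ q : ℕ, q.Prime → q ∣ orderOf y → q ∈ π \ {r} := by
    rintro ⟨c, hc⟩
    obtain ⟨g, hg⟩ := isConj_iff.mp (ConjClasses.mk_eq_mk_iff_isConj.mp (congrArg Subtype.val hc))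
    refine ⟨⟨g * b c * g⁻¹, ?_⟩, ?_, ?_⟩
    · rw [mem_centralizer_singleton_iff, ← hg]
      calc g * b c * g⁻¹ * (g * a c * g⁻¹) = g * (b c * a c) * g⁻¹ := by group
        _ = _ := by rw [← (hcomm c).eq]; group
    · rw [hab c, ConjClasses.mk_eq_mk_iff_isConj, isConj_iff]
      refine ⟨g, ?_⟩
      change _ = x * (g * b c * g⁻¹)
      rw [← hg]; group
    · rw [Subgroup.orderOf_mk, ← orderOf_eq_of_isConj (isConj_iff.mpr ⟨g, rfl⟩)]
      exact hb c
  choose y hy1 hy2 using hex2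
  unfold kpi kcl
  refine Nat.card_le_card_of_injective (fun c => ⟨ConjClasses.mk (y c),
    (forall_mem_carrier_mk (Q := fun n => ∀ q : ℕ, q.Prime → q ∣ n → q ∈ π \ {r})).mpr (hy2 c)⟩) ?_
  intro c c' h
  obtain ⟨⟨g, hg⟩, hg'⟩ :=
    isConj_iff.mp (ConjClasses.mk_eq_mk_iff_isConj.mp (congrArg Subtype.val h))
  apply Subtype.ext
  apply Subtype.ext
  rw [hy1 c, hy1 c', ConjClasses.mk_eq_mk_iff_isConj, isConj_iff]
  refine ⟨g, ?_⟩
  rw [← hg']
  rw [mem_centralizer_singleton_iff] at hg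
  calc g * (x * y c) * g⁻¹ = (g * x) * y c * g⁻¹ := by group
    _ = _ := by rw [hg]; simp [mul_assoc]

/-- The `π`-part of a natural number for a finite set of primes. -/
def piPart (π : Finset ℕ) (n : ℕ) : ℕ := π.prod fun r => r ^ n.factorization r

theorem piPart_le_of_dvd {π : Finset ℕ} (hπ : ∀ r ∈ π, r.Prime) {m n : ℕ} (hn : n ≠ 0)
    (h : m ∣ n) : piPart π m ≤ piPart π n :=
  prod_le_prod' fun r hr => Nat.pow_le_pow_right (hπ r hr).pos
    ((Nat.factorization_le_iff_dvd (ne_zero_of_dvd_ne_zero hn h) hn).mpr h r)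

theorem piPart_pos {π : Finset ℕ} (hπ : ∀ r ∈ π, r.Prime) (n : ℕ) : 0 < piPart π n :=
  prod_pos fun r hr => pow_pos (hπ r hr).pos _

universe u in
/-- `k_π(G) ≤ |G|_π`. -/
theorem kpi_le_piPart (π : Finset ℕ) (hπ : ∀ r ∈ π, r.Prime) (G : Type u) [Group G] [Finite G] :
    kpi (π : Set ℕ) G ≤ piPart π (Nat.card G) := by
  induction π using Finset.induction_on generalizing G with
  | empty =>
    rw [piPart, prod_empty, kpi, kcl]
    refine Finite.card_le_one_iff_subsingleton.mpr ⟨?_⟩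
    have : ∀ c : {c : ConjClasses G // ∀ x ∈ c.carrier, ∀ r : ℕ, r.Prime → r ∣ orderOf x →
        r ∈ ((∅ : Finset ℕ) : Set ℕ)}, c.1 = ConjClasses.mk 1 := by
      rintro ⟨c, hc⟩
      obtain ⟨x, rfl⟩ := ConjClasses.mk_surjective c
      have : orderOf x = 1 := by
        by_contra h
        obtain ⟨r, hr, hd⟩ := Nat.exists_prime_and_dvd h
        simpa using hc x ConjClasses.mem_carrier_mk r hr hd
      exact congrArg _ (orderOf_eq_one_iff.mp this)
    exact fun c d => Subtype.ext ((this c).trans (this d).symm)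
  | insert r π hr ih =>
    have hrp := hπ r (mem_insert_self r π)
    have hπ' : ∀ q ∈ π, q.Prime := fun q hq => hπ q (mem_insert_of_mem hq)
    haveI := Fact.mk hrp
    obtain ⟨P⟩ : Nonempty (Sylow r G) := inferInstance
    refine (kpi_le_mul hrp (piPart π (Nat.card G)) fun x _ => ?_).trans ?_
    · have : ((insert r π : Finset ℕ) : Set ℕ) \ {r} = (π : Set ℕ) := by
        rw [coe_insert, Set.insert_diff_self_of_notMem (by simpa using hr)]
      rw [this]
      exact (ih hπ' _).trans (piPart_le_of_dvd hπ' Nat.card_pos.ne' (card_subgroup_dvd_card _))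
    · rw [piPart, piPart, prod_insert hr, ← P.card_eq_multiplicity]
      exact Nat.mul_le_mul_right _ (kcl_le_card_sylow P)

/-- `k_π(G) ≤ k_r(G) · |G|_{π \ r}`. -/
theorem kpi_le_kcl_mul_piPart [Finite G] (π : Finset ℕ) (hπ : ∀ r ∈ π, r.Prime) {r : ℕ}
    (hr : r.Prime) : kpi (π : Set ℕ) G ≤
      kcl (fun x : G => ∃ k : ℕ, orderOf x = r ^ k) * piPart (π.erase r) (Nat.card G) := by
  have hπ' : ∀ q ∈ π.erase r, q.Prime := fun q hq => hπ q (mem_of_mem_erase hq)
  refine kpi_le_mul hr _ fun x _ => ?_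
  rw [← coe_erase]
  exact (kpi_le_piPart _ hπ' _).trans
    (piPart_le_of_dvd hπ' Nat.card_pos.ne' (card_subgroup_dvd_card _))

theorem piPart_eq_mul_erase {π : Finset ℕ} {r : ℕ} (hr : r ∈ π) (n : ℕ) :
    piPart π n = r ^ n.factorization r * piPart (π.erase r) n :=
  (mul_prod_erase π (fun r => r ^ n.factorization r) hr).symm

/-- `2 k_p(G) ≤ |P| + |Y|` whenever `Y` contains the elements of `P` conjugate to no other element
of `P`. -/
theorem two_mul_kcl_le [Finite G] {p : ℕ} [Fact p.Prime] (P : Sylow p G) (Y : Subgroup G)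
    (hY : ∀ x ∈ (P : Subgroup G), (∀ g : G, g * x * g⁻¹ ∈ (P : Subgroup G) → g * x * g⁻¹ = x) →
      x ∈ Y) :
    2 * kcl (fun x : G => ∃ k : ℕ, orderOf x = p ^ k) ≤ Nat.card P + Nat.card Y := by
  classical
  haveI := Fintype.ofFinite G
  have h1 := kcl_eq_sum_sylow P
  have h2 : ∑ x ∈ univ.filter (· ∈ (P : Subgroup G)),
      (((univ.filter fun y => y ∈ (P : Subgroup G) ∧ IsConj y x).card : ℚ))⁻¹ ≤
      ∑ x ∈ univ.filter (· ∈ (P : Subgroup G)), (1 / 2 + if x ∈ Y then 1 / 2 else 0 : ℚ) := by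
    refine sum_le_sum fun x hx => ?_
    have hxP := (mem_filter.mp hx).2
    have hmem : x ∈ univ.filter fun y => y ∈ (P : Subgroup G) ∧ IsConj y x :=
      mem_filter.mpr ⟨mem_univ x, hxP, IsConj.refl x⟩
    split_ifs with hxY
    · have : (1 : ℚ) ≤ (univ.filter fun y => y ∈ (P : Subgroup G) ∧ IsConj y x).card := by
        exact_mod_cast card_pos.mpr ⟨x, hmem⟩
      rw [inv_le_comm₀ (by linarith) (by norm_num)]
      linarith
    · have : ¬ ∀ g : G, g * x * g⁻¹ ∈ (P : Subgroup G) → g * x * g⁻¹ = x := fun h => hxY (hY x hxP h)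
      push Not at this
      obtain ⟨g, hg1, hg2⟩ := this
      have : (2 : ℚ) ≤ (univ.filter fun y => y ∈ (P : Subgroup G) ∧ IsConj y x).card := by
        exact_mod_cast one_lt_card.mpr ⟨_, mem_filter.mpr ⟨mem_univ _, hg1,
          (isConj_iff.mpr ⟨g, rfl⟩).symm⟩, x, hmem, hg2⟩
      rw [inv_le_comm₀ (by linarith) (by norm_num)]
      linarith
  rw [sum_add_distrib, sum_const, card_filter_mem_subgroup, ← sum_filter, sum_const] at h2
  have h3 : ((univ.filter (· ∈ (P : Subgroup G))).filter (· ∈ Y)).card ≤ Nat.card Y := by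
    rw [← card_filter_mem_subgroup]
    exact card_le_card fun x hx => mem_filter.mpr ⟨mem_univ x, (mem_filter.mp hx).2⟩
  have h4 : (((univ.filter (· ∈ (P : Subgroup G))).filter (· ∈ Y)).card : ℚ) ≤ Nat.card Y := by
    exact_mod_cast h3
  rw [← h1, nsmul_eq_mul, nsmul_eq_mul] at h2
  have : (2 * kcl (fun x : G => ∃ k : ℕ, orderOf x = p ^ k) : ℚ) ≤
      Nat.card (P : Subgroup G) + Nat.card Y := by linarith
  exact_mod_cast this

/-- If `k_p(G) > (p + 1) |P| / (2 p)` then `P` lies in the centre of its normalizer. -/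
theorem normalizer_le_centralizer_of_kcl [Finite G] {p : ℕ} [hp : Fact p.Prime] (P : Sylow p G)
    (h : (p + 1) * Nat.card P < 2 * p * kcl (fun x : G => ∃ k : ℕ, orderOf x = p ^ k)) :
    normalizer ((P : Subgroup G) : Set G) ≤ centralizer ((P : Subgroup G) : Set G) := by
  rw [le_centralizer_iff]
  by_contra hcon
  let Y : Subgroup G := (P : Subgroup G) ⊓ centralizer (normalizer ((P : Subgroup G) : Set G))
  have h1 := two_mul_kcl_le P Y fun x hx h => ⟨hx, fun g hg => by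
    rw [← mul_inv_eq_iff_eq_mul]
    exact h g ((mem_normalizer_iff.mp hg x).mp hx)⟩
  have h2 : p * Nat.card Y ≤ Nat.card P := by
    have h3 := card_mul_relIndex (inf_le_left : Y ≤ P)
    obtain ⟨k, hk⟩ := P.isPGroup'.index (Y.subgroupOf P)
    have hk0 : k ≠ 0 := by
      rintro rfl
      exact hcon ((relIndex_eq_one.mp hk).trans inf_le_right)
    have : p ≤ Y.relIndex P := by
      rw [relIndex, hk]
      exact Nat.le_self_pow hk0 p
    calc p * Nat.card Y ≤ Y.relIndex P * Nat.card Y := Nat.mul_le_mul_right _ this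
      _ = _ := by rw [mul_comm, h3]
  nlinarith

end Cfsg.Agent.H3
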