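import Mathlib

/-! The determinant pairing on `(ℤ/q)²`: orthogonal complements of subgroups. -/

set_option autoImplicit false

namespace Cfsg.Agent.H3

theorem card_addMonoidHom_zmod_le (A : Type*) [AddCommGroup A] [Finite A] (q : ℕ) [NeZero q] :
    Finite (A →+ ZMod q) ∧ Nat.card (A →+ ZMod q) ≤ Nat.card A := by
  classical
  haveI := Fintype.ofFinite A
  let F : (A →+ ZMod q) → AddChar A ℂ := fun f => ZMod.stdAddChar.compAddMonoidHom f
  have hF : Function.Injective F := by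
    intro f g h
    ext a
    exact ZMod.injective_stdAddChar (DFunLike.congr_fun h a)
  refine ⟨Finite.of_injective F hF, (Nat.card_le_card_of_injective F hF).trans ?_⟩
  rw [Nat.card_eq_fintype_card, Nat.card_eq_fintype_card, AddChar.card_eq]

variable {q : ℕ}

/-- The determinant pairing. -/
def zdet (u v : ZMod q × ZMod q) : ZMod q := u.2 * v.1 - u.1 * v.2

theorem zdet_self (u : ZMod q × ZMod q) : zdet u u = 0 := by simp [zdet, mul_comm]

theorem zdet_swap (u v : ZMod q × ZMod q) : zdet u v = -zdet v u := by simp [zdet]; ring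

theorem zdet_add_right (u v w : ZMod q × ZMod q) : zdet u (v + w) = zdet u v + zdet u w := by
  simp [zdet]; ring

theorem zdet_add_left (u v w : ZMod q × ZMod q) : zdet (u + v) w = zdet u w + zdet v w := by
  simp [zdet]; ring

theorem zdet_smul_left (c : ZMod q) (u v : ZMod q × ZMod q) : zdet (c • u) v = c * zdet u v := by
  simp [zdet]; ring

theorem zdet_zsmul_left (c : ℤ) (u v : ZMod q × ZMod q) : zdet (c • u) v = c * zdet u v := by
  simp [zdet]; ring

theorem eq_zero_of_forall_zdet {u : ZMod q × ZMod q} (h : ∀ v, zdet u v = 0) : u = 0 := by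
  have h1 := h (1, 0)
  have h2 := h (0, 1)
  simp only [zdet, mul_one, mul_zero, sub_zero, zero_sub, neg_eq_zero] at h1 h2
  exact Prod.ext h2 h1

/-- The orthogonal complement of a subgroup. -/
def zperp (W : AddSubgroup (ZMod q × ZMod q)) : AddSubgroup (ZMod q × ZMod q) where
  carrier := {v | ∀ w ∈ W, zdet w v = 0}
  zero_mem' := fun w _ => by simp [zdet]
  add_mem' := fun {a b} ha hb w hw => by rw [zdet_add_right, ha w hw, hb w hw, add_zero]
  neg_mem' := fun {a} ha w hw => by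
    have := ha w hw
    simp only [zdet, Prod.fst_neg, Prod.snd_neg] at this ⊢
    linear_combination -this

theorem mem_zperp {W : AddSubgroup (ZMod q × ZMod q)} {v : ZMod q × ZMod q} :
    v ∈ zperp W ↔ ∀ w ∈ W, zdet w v = 0 := Iff.rfl

theorem le_zperp_zperp (W : AddSubgroup (ZMod q × ZMod q)) : W ≤ zperp (zperp W) :=
  fun w hw v hv => by rw [zdet_swap, hv w hw, neg_zero]

theorem zperp_anti {W W' : AddSubgroup (ZMod q × ZMod q)} (h : W ≤ W') : zperp W' ≤ zperp W :=
  fun _ hv w hw => hv w (h hw)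

theorem mem_zperp_zmultiples {u v : ZMod q × ZMod q} :
    v ∈ zperp (AddSubgroup.zmultiples u) ↔ zdet u v = 0 := by
  refine ⟨fun h => h u (AddSubgroup.mem_zmultiples u), fun h => ?_⟩
  rintro _ ⟨k, rfl⟩
  simp only [zdet_zsmul_left, h, mul_zero]

theorem card_zmod_prod [NeZero q] : Nat.card (ZMod q × ZMod q) = q ^ 2 := by
  rw [Nat.card_prod, Nat.card_zmod, sq]

theorem card_mul_card_zperp [NeZero q] (W : AddSubgroup (ZMod q × ZMod q)) :
    Nat.card W * Nat.card (zperp W) = q ^ 2 := by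
  apply le_antisymm
  · obtain ⟨hfin, hle⟩ := card_addMonoidHom_zmod_le ((ZMod q × ZMod q) ⧸ W) q
    let F : zperp W → (((ZMod q × ZMod q) ⧸ W) →+ ZMod q) := fun v =>
      QuotientAddGroup.lift W (AddMonoidHom.mk' (fun u => zdet u v.1)
        (fun a b => zdet_add_left a b v.1)) (fun w hw => v.2 w hw)
    have hF : Function.Injective F := by
      intro v v' h
      apply Subtype.ext
      rw [← sub_eq_zero]
      apply eq_zero_of_forall_zdet
      intro u
      have : zdet u v.1 = zdet u v'.1 := DFunLike.congr_fun h (QuotientAddGroup.mk u)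
      simp only [zdet, Prod.fst_sub, Prod.snd_sub] at this ⊢
      linear_combination -this
    rw [← card_zmod_prod, ← W.card_mul_index]
    exact Nat.mul_le_mul_left _ ((Nat.card_le_card_of_injective F hF).trans hle)
  · obtain ⟨hfin, hle⟩ := card_addMonoidHom_zmod_le W q
    let F : (ZMod q × ZMod q) →+ (W →+ ZMod q) := AddMonoidHom.mk'
      (fun v => AddMonoidHom.mk' (fun w => zdet w.1 v) (fun a b => zdet_add_left a.1 b.1 v))
      (fun a b => AddMonoidHom.ext fun w => zdet_add_right w.1 a b)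
    have hker : F.ker = zperp W := by
      ext v
      constructor
      · intro h w hw
        exact DFunLike.congr_fun h ⟨w, hw⟩
      · intro h
        exact AddMonoidHom.ext fun w => h w.1 w.2
    rw [← card_zmod_prod, ← (zperp W).card_mul_index, mul_comm (Nat.card W)]
    refine Nat.mul_le_mul_left _ ?_
    rw [← hker, AddSubgroup.index_ker]
    exact (AddSubgroup.card_le_card_addGroup _).trans hle

theorem zperp_zperp [NeZero q] (W : AddSubgroup (ZMod q × ZMod q)) : zperp (zperp W) = W := by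
  refine (AddSubgroup.eq_of_le_of_card_ge (le_zperp_zperp W) ?_).symm
  have h1 := card_mul_card_zperp W
  have h2 := card_mul_card_zperp (zperp W)
  rw [← h1, mul_comm (Nat.card W)] at h2
  exact (Nat.eq_of_mul_eq_mul_left Nat.card_pos h2).le

theorem index_zperp [NeZero q] (W : AddSubgroup (ZMod q × ZMod q)) :
    (zperp W).index = Nat.card W := by
  have h1 := card_mul_card_zperp W
  rw [← card_zmod_prod, ← (zperp W).card_mul_index, mul_comm (Nat.card W)] at h1
  exact (Nat.eq_of_mul_eq_mul_left Nat.card_pos h1).symm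

theorem card_le_of_le_zperp [NeZero q] {W : AddSubgroup (ZMod q × ZMod q)} (h : W ≤ zperp W) :
    Nat.card W ≤ q := by
  have h1 := card_mul_card_zperp W
  have h2 := AddSubgroup.card_le_of_le h
  nlinarith

theorem int_pow_dvd_of_not_dvd {p n : ℕ} (hp : p.Prime) {d e : ℤ} (hd : ¬ ((p ^ n : ℕ) : ℤ) ∣ d)
    {m : ℕ} (h : ((p : ℤ) ^ (n + m)) ∣ d * e) : (p : ℤ) ^ (m + 1) ∣ e := by
  have hp' := Nat.prime_iff_prime_int.1 hp
  have hd0 : d ≠ 0 := by rintro rfl; exact hd (dvd_zero _)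
  obtain ⟨k, d', hd', rfl⟩ := WfDvdMonoid.max_power_factor hd0 hp'.irreducible
  have hk : k < n := by
    by_contra hk
    push_cast at hd
    exact hd ((pow_dvd_pow _ (not_lt.1 hk)).trans (dvd_mul_right _ _))
  obtain ⟨j, rfl⟩ := Nat.exists_eq_add_of_lt hk
  rw [show k + j + 1 + m = k + (m + 1 + j) by ring, pow_add, mul_assoc,
    mul_dvd_mul_iff_left (pow_ne_zero _ hp'.ne_zero)] at h
  exact (pow_dvd_pow _ (Nat.le_add_right _ _)).trans (hp'.pow_dvd_of_dvd_mul_left _ hd' h)

theorem zperp_le_of_zdet_ne_zero {p n : ℕ} (hp : p.Prime) (hq : q = p ^ n)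
    {W : AddSubgroup (ZMod q × ZMod q)} {u v : ZMod q × ZMod q} (hu : u ∈ W) (hv : v ∈ W)
    (huv : zdet u v ≠ 0) : zperp W ≤ W := by
  haveI : NeZero q := ⟨hq ▸ pow_ne_zero _ hp.ne_zero⟩
  conv_rhs => rw [← zperp_zperp W]
  intro w' hw' w hw
  have a1 := hw u hu
  have a2 := hw v hv
  have a3 := hw' u hu
  have a4 := hw' v hv
  obtain ⟨u1, u2⟩ := u
  obtain ⟨v1, v2⟩ := v
  obtain ⟨w1, w2⟩ := w
  obtain ⟨x1, x2⟩ := w'
  obtain ⟨u1, rfl⟩ := ZMod.intCast_surjective u1
  obtain ⟨u2, rfl⟩ := ZMod.intCast_surjective u2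
  obtain ⟨v1, rfl⟩ := ZMod.intCast_surjective v1
  obtain ⟨v2, rfl⟩ := ZMod.intCast_surjective v2
  obtain ⟨w1, rfl⟩ := ZMod.intCast_surjective w1
  obtain ⟨w2, rfl⟩ := ZMod.intCast_surjective w2
  obtain ⟨x1, rfl⟩ := ZMod.intCast_surjective x1
  obtain ⟨x2, rfl⟩ := ZMod.intCast_surjective x2
  simp only [zdet] at a1 a2 a3 a4 huv ⊢
  norm_cast at a1 a2 a3 a4 huv ⊢
  rw [ZMod.intCast_zmod_eq_zero_iff_dvd] at a1 a2 a3 a4 huv ⊢
  have h1 : (p : ℤ) ^ (n + n) ∣ (u2 * v1 - u1 * v2) * (w2 * x1 - w1 * x2) := by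
    have e : (u2 * v1 - u1 * v2) * (w2 * x1 - w1 * x2) =
        (u2 * w1 - u1 * w2) * (v2 * x1 - v1 * x2) - (u2 * x1 - u1 * x2) * (v2 * w1 - v1 * w2) := by
      ring
    subst hq
    push_cast at a1 a2 a3 a4
    rw [e, pow_add]
    exact dvd_sub (mul_dvd_mul a1 a4) (mul_dvd_mul a3 a2)
  subst hq
  have := int_pow_dvd_of_not_dvd hp huv h1
  push_cast
  exact (pow_dvd_pow _ (Nat.le_succ n)).trans this

theorem lt_card_of_zdet_ne_zero {p n : ℕ} (hp : p.Prime) (hq : q = p ^ n)
    {W : AddSubgroup (ZMod q × ZMod q)} {u v : ZMod q × ZMod q} (hu : u ∈ W) (hv : v ∈ W)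
    (huv : zdet u v ≠ 0) : q < Nat.card W := by
  haveI : NeZero q := ⟨hq ▸ pow_ne_zero _ hp.ne_zero⟩
  have h1 := zperp_le_of_zdet_ne_zero hp hq hu hv huv
  have h2 : Nat.card (zperp W) < Nat.card W := by
    refine lt_of_le_of_ne (AddSubgroup.card_le_of_le h1) fun h => huv ?_
    have := AddSubgroup.eq_of_le_of_card_ge h1 h.ge
    exact this.ge hv u hu
  have h3 := card_mul_card_zperp W
  nlinarith

theorem pow_smul_mem_of_zdet_ne_zero {p n : ℕ} (hp : p.Prime) (hq : q = p ^ n)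
    {W : AddSubgroup (ZMod q × ZMod q)} {u v : ZMod q × ZMod q} (hu : u ∈ W) (hv : v ∈ W)
    (huv : zdet u v ≠ 0) (w : ZMod q × ZMod q) : (p ^ (n - 1) : ZMod q) • w ∈ W := by
  haveI : NeZero q := ⟨hq ▸ pow_ne_zero _ hp.ne_zero⟩
  have h1 : zdet u v • w ∈ W := by
    have e : zdet u v • w = zdet w v • u + zdet u w • v := by
      ext <;> simp [zdet] <;> ring
    rw [e]
    exact W.add_mem (ZMod.smul_mem hu _) (ZMod.smul_mem hv _)
  obtain ⟨d, hd⟩ := ZMod.intCast_surjective (zdet u v)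
  rw [← hd] at h1 huv
  rw [Ne, ZMod.intCast_zmod_eq_zero_iff_dvd] at huv
  have hp' := Nat.prime_iff_prime_int.1 hp
  have hd0 : d ≠ 0 := by rintro rfl; exact huv (dvd_zero _)
  obtain ⟨k, d', hd', rfl⟩ := WfDvdMonoid.max_power_factor hd0 hp'.irreducible
  have hk : k < n := by
    by_contra hk
    subst hq
    push_cast at huv
    exact huv ((pow_dvd_pow _ (not_lt.1 hk)).trans (dvd_mul_right _ _))
  have hu' : IsUnit (d' : ZMod q) := by
    rw [ZMod.coe_int_isUnit_iff_isCoprime, hq]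
    push_cast
    exact ((hp'.irreducible.coprime_iff_not_dvd).2 hd').pow_left
  obtain ⟨e, he⟩ := hu'.exists_left_inv
  have := ZMod.smul_mem h1 ((p : ZMod q) ^ (n - 1 - k) * e)
  rw [smul_smul] at this
  convert this using 2
  push_cast
  rw [show n - 1 = (n - 1 - k) + k by omega, pow_add]
  simp only [Nat.add_sub_cancel]
  linear_combination -((p : ZMod q) ^ (n - 1 - k) * p ^ k) * he

theorem card_nsmul_eq_zero_zmod {p n i : ℕ} (hp : p.Prime) (hq : q = p ^ n) (hi : i ≤ n) :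
    Nat.card {v : ZMod q × ZMod q // p ^ i • v = 0} = p ^ (2 * i) := by
  haveI : NeZero q := ⟨hq ▸ pow_ne_zero _ hp.ne_zero⟩
  have h1 : Nat.card {x : ZMod q // p ^ i • x = 0} = p ^ i := by
    have := IsAddCyclic.card_nsmulAddMonoidHom_ker (G := ZMod q) (p ^ i)
    subst hq
    rw [Nat.card_zmod, Nat.gcd_eq_right (pow_dvd_pow p hi)] at this
    exact this
  rw [two_mul, pow_add]
  conv_rhs => rw [← h1]
  rw [← Nat.card_prod]
  refine Nat.card_congr ⟨fun v => (⟨v.1.1, congrArg Prod.fst v.2⟩, ⟨v.1.2, congrArg Prod.snd v.2⟩),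
    fun x => ⟨(x.1.1, x.2.1), Prod.ext x.1.2 x.2.2⟩, fun v => rfl, fun x => rfl⟩

end Cfsg.Agent.H3
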