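import Mathlib
import Cfsg.Prelude.Def_OddOrderLocal
import Cfsg.Agent.H3.MetaLin
import Cfsg.Agent.H3.CyclicNormal
import Cfsg.Agent.H3.Modular

/-! Metacyclic `p`-groups for odd `p`: coordinates modulo the centre. -/

set_option autoImplicit false

namespace Cfsg.Agent.H3

open Subgroup Finset
open scoped commutatorElement

/-- The geometric sum `1 + r + ⋯ + r ^ (j - 1)`. -/
def gs (r : ℤ) (j : ℕ) : ℤ := ∑ t ∈ range j, r ^ t

theorem gs_zero (r : ℤ) : gs r 0 = 0 := by simp [gs]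

theorem gs_one (r : ℤ) : gs r 1 = 1 := by simp [gs]

theorem gs_add (r : ℤ) (i j : ℕ) : gs r (i + j) = gs r i + r ^ i * gs r j := by
  simp [gs, sum_range_add, pow_add, mul_sum]

theorem gs_mul (r : ℤ) (i j : ℕ) : gs r (i * j) = gs r i * gs (r ^ i) j := by
  induction j with
  | zero => simp [gs_zero]
  | succ j ih => rw [Nat.mul_succ, gs_add, ih, gs_add, gs_one, pow_mul]; ring

theorem gs_mul_sub (r : ℤ) (j : ℕ) : gs r j * (r - 1) = r ^ j - 1 := geom_sum_mul r j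

theorem sub_one_dvd_pow_sub_one' (r : ℤ) (j : ℕ) : r - 1 ∣ r ^ j - 1 :=
  ⟨gs r j, by rw [← gs_mul_sub, mul_comm]⟩

theorem dvd_gs_sub (r : ℤ) (j : ℕ) : r - 1 ∣ gs r j - j := by
  induction j with
  | zero => simp [gs_zero]
  | succ j ih =>
    rw [gs_add, gs_one]
    have e : gs r j + r ^ j * 1 - ((j + 1 : ℕ) : ℤ) = gs r j - j + (r ^ j - 1) := by
      push_cast; ring
    rw [e]
    exact dvd_add ih (sub_one_dvd_pow_sub_one' r j)

theorem pow_dvd_gs_iff {p : ℕ} (hp : p.Prime) (hp2 : p ≠ 2) {r : ℤ} (h : (p : ℤ) ∣ r - 1)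
    (n d : ℕ) : (p : ℤ) ^ n ∣ gs r d ↔ p ^ n ∣ d := by
  induction n generalizing d with
  | zero => simp
  | succ n ih =>
    have key : ∀ d', ∃ s : ℤ, ¬ (p : ℤ) ∣ s ∧ gs r (d' * p) = p * (gs r d' * s) := by
      intro d'
      obtain ⟨s, hs, hsum⟩ := exists_geom_sum_eq_prime_mul hp
        (h.trans (sub_one_dvd_pow_sub_one' r d')) (fun h2 => absurd h2 hp2)
      refine ⟨s, not_dvd_of_dvd_sub_one hp hs, ?_⟩
      rw [gs_mul, show gs (r ^ d') p = p * s from hsum]; ring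
    have hp0 : (p : ℤ) ≠ 0 := by exact_mod_cast hp.ne_zero
    constructor
    · intro h1
      have h2 : (p : ℤ) ∣ d := by
        have := dvd_sub ((dvd_pow_self _ n.succ_ne_zero).trans h1) (h.trans (dvd_gs_sub r d))
        simpa using this
      obtain ⟨d', rfl⟩ := Int.natCast_dvd_natCast.1 h2
      obtain ⟨s, hs, e⟩ := key d'
      rw [mul_comm p d', e, pow_succ', mul_dvd_mul_iff_left hp0] at h1
      rw [pow_succ']
      exact Nat.mul_dvd_mul_left _ ((ih d').1 (prime_pow_dvd_of_dvd_mul hp hs h1))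
    · rintro ⟨d', rfl⟩
      obtain ⟨s, -, e⟩ := key (p ^ n * d')
      rw [show p ^ (n + 1) * d' = p ^ n * d' * p by ring, e, pow_succ']
      exact mul_dvd_mul_left _ (((ih _).2 (dvd_mul_right _ _)).mul_right _)

theorem exists_gs_eq {p : ℕ} (hp : p.Prime) (hp2 : p ≠ 2) {r : ℤ} (h : (p : ℤ) ∣ r - 1)
    {q n : ℕ} (hq : q = p ^ n) (x : ZMod q) : ∃ j : ℕ, (gs r j : ZMod q) = x := by
  haveI : NeZero q := ⟨hq ▸ pow_ne_zero _ hp.ne_zero⟩
  have hr : ∀ i : ℕ, ¬ (p : ℤ) ∣ r ^ i := fun i =>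
    not_dvd_of_dvd_sub_one hp (h.trans (sub_one_dvd_pow_sub_one' r i))
  have key : ∀ i j : ℕ, i ≤ j → j < q → (gs r i : ZMod q) = gs r j → i = j := by
    intro i j hij hj e
    obtain ⟨d, rfl⟩ := Nat.exists_eq_add_of_le hij
    rw [gs_add, Int.cast_add, left_eq_add, ZMod.intCast_zmod_eq_zero_iff_dvd, hq, mul_comm] at e
    push_cast at e
    have h1 := (pow_dvd_gs_iff hp hp2 h n d).1 (prime_pow_dvd_of_dvd_mul hp (hr i) e)
    have := Nat.eq_zero_of_dvd_of_lt h1 (by omega)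
    omega
  have hinj : Function.Injective (fun y : ZMod q => (gs r y.val : ZMod q)) := by
    intro y z e
    apply ZMod.val_injective
    rcases le_total y.val z.val with h1 | h1
    · exact key _ _ h1 (ZMod.val_lt z) e
    · exact (key _ _ h1 (ZMod.val_lt y) e.symm).symm
  obtain ⟨y, hy⟩ := Finite.surjective_of_injective hinj x
  exact ⟨y.val, hy⟩

theorem exists_gs_modEq {p : ℕ} (hp : p.Prime) (hp2 : p ≠ 2) {r : ℤ} (h : (p : ℤ) ∣ r - 1)
    (n : ℕ) (x : ℤ) : ∃ j : ℕ, (p : ℤ) ^ n ∣ gs r j - x := by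
  obtain ⟨j, hj⟩ := exists_gs_eq hp hp2 h (q := p ^ n) rfl (x : ZMod (p ^ n))
  refine ⟨j, ?_⟩
  rw [eq_comm, ZMod.intCast_eq_intCast_iff_dvd_sub] at hj
  exact_mod_cast hj

theorem dvd_gs_pow_sub {p : ℕ} (hp : p.Prime) (hp2 : p ≠ 2) {r : ℤ} (h : (p : ℤ) ∣ r - 1)
    (v : ℕ) : (p : ℤ) ^ v * (r - 1) ∣ gs r (p ^ v) - p ^ v := by
  have base : ∀ s : ℤ, (p : ℤ) ∣ s - 1 → (p : ℤ) * (s - 1) ∣ gs s p - p := by
    intro s hs
    have e : gs s p - p = (∑ t ∈ range p, gs s t) * (s - 1) := by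
      rw [sum_mul]
      simp only [gs_mul_sub]
      simp [gs]
    rw [e]
    refine mul_dvd_mul_right ?_ _
    have h1 : (p : ℤ) ∣ ∑ t ∈ range p, (gs s t - t) :=
      dvd_sum fun t _ => hs.trans (dvd_gs_sub s t)
    have h2 : (p : ℤ) ∣ ∑ t ∈ range p, (t : ℤ) := by
      have h3 := Finset.sum_range_id_mul_two p
      have h4 : p ∣ (∑ t ∈ range p, t) * 2 := h3 ▸ dvd_mul_right _ _
      have h5 := (Nat.Coprime.dvd_mul_right ((Nat.coprime_primes hp Nat.prime_two).2 hp2)).1 h4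
      rw [← Nat.cast_sum]
      exact Int.natCast_dvd_natCast.2 h5
    rw [sum_sub_distrib] at h1
    simpa using dvd_add h1 h2
  induction v with
  | zero => simp [gs_one]
  | succ v ih =>
    obtain ⟨α, hα⟩ := ih
    obtain ⟨β, hβ⟩ := base _ (h.trans (sub_one_dvd_pow_sub_one' r (p ^ v)))
    obtain ⟨γ, hγ⟩ := sub_one_dvd_pow_sub_one' r (p ^ v)
    rw [pow_succ p v, gs_mul, eq_add_of_sub_eq hα, eq_add_of_sub_eq hβ, hγ]
    exact ⟨α * (r - 1) * γ * β + α + γ * β, by ring⟩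

/-- Generators of a metacyclic `p`-group, `p` odd. -/
structure MetaData (p : ℕ) (G : Type*) [Group G] where
  /-- generator of the cyclic normal subgroup -/
  a : G
  /-- generator modulo the cyclic normal subgroup -/
  b : G
  /-- the exponent of the action -/
  r : ℤ
  /-- the exponent of the order of the derived subgroup -/
  n : ℕ
  prime : p.Prime
  odd : p ≠ 2
  conj : b * a * b⁻¹ = a ^ r
  dvd : (p : ℤ) ∣ r - 1
  gen : ∀ g : G, ∃ (i : ℤ) (j : ℕ), g = a ^ i * b ^ j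
  order : orderOf (a ^ (r - 1)) = p ^ n

variable {p : ℕ} {G : Type*} [Group G]

theorem nonempty_metaData [Finite G] [hp : Fact p.Prime] (hp2 : p ≠ 2) (hG : IsPGroup p G)
    (h : Cfsg.IsMetacyclic G) : Nonempty (MetaData p G) := by
  obtain ⟨N, hN, h1, h2⟩ := h
  obtain ⟨a, rfl⟩ := (N.isCyclic_iff_exists_zpowers_eq_top).1 h1
  obtain ⟨b', hb'⟩ := IsCyclic.exists_monoid_generator (α := G ⧸ zpowers a)
  obtain ⟨b, rfl⟩ := QuotientGroup.mk'_surjective _ b'
  have hgen : ∀ g : G, ∃ (i : ℤ) (j : ℕ), g = a ^ i * b ^ j := by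
    intro g
    obtain ⟨j, hj⟩ := hb' (QuotientGroup.mk' _ g)
    have : g * (b ^ j)⁻¹ ∈ zpowers a := by
      rw [← QuotientGroup.eq_one_iff]
      change QuotientGroup.mk' _ (g * (b ^ j)⁻¹) = 1
      rw [map_mul, map_inv, map_pow, ← hj]
      exact mul_inv_cancel _
    obtain ⟨i, hi⟩ := mem_zpowers_iff.1 this
    exact ⟨i, j, by rw [hi]; group⟩
  have : ∃ r : ℤ, b * a * b⁻¹ = a ^ r ∧ (p : ℤ) ∣ r - 1 := by
    by_cases ha : a = 1
    · exact ⟨1, by simp [ha], by simp⟩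
    · obtain ⟨r, hr⟩ := exists_conj_eq_zpow (x := a) b
      obtain ⟨k, hk⟩ := hG b
      obtain ⟨m, hm⟩ := (IsPGroup.iff_orderOf.1 hG) a
      refine ⟨r, hr, dvd_exp_sub_one hp.out hr ?_ hk⟩
      rw [hm]
      refine dvd_pow_self p ?_
      rintro rfl
      exact ha (orderOf_eq_one_iff.1 hm)
  obtain ⟨r, hr, hr'⟩ := this
  obtain ⟨n, hn⟩ := (IsPGroup.iff_orderOf.1 hG) (a ^ (r - 1))
  exact ⟨⟨a, b, r, n, hp.out, hp2, hr, hr', hgen, hn⟩⟩

namespace MetaData

variable (d : MetaData p G)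

/-- The generator of the derived subgroup. -/
def c : G := d.a ^ (d.r - 1)

theorem orderOf_c : orderOf d.c = p ^ d.n := d.order

instance instNeZeroPow : NeZero (p ^ d.n) := ⟨pow_ne_zero _ d.prime.ne_zero⟩

theorem mul_formula (i k : ℤ) (j l : ℕ) :
    d.a ^ i * d.b ^ j * (d.a ^ k * d.b ^ l) = d.a ^ (i + d.r ^ j * k) * d.b ^ (j + l) := by
  rw [mul_assoc, ← mul_assoc (d.b ^ j), mul_zpow_of_conj (pow_conj_of_conj d.conj j), zpow_add,
    pow_add]
  simp only [mul_assoc]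

theorem comm_formula (i k : ℤ) (j l : ℕ) :
    ⁅d.a ^ i * d.b ^ j, d.a ^ k * d.b ^ l⁆ = d.c ^ (gs d.r j * k - i * gs d.r l) := by
  have : ∀ x y : G, ⁅x, y⁆ = (x * y) * (y * x)⁻¹ := fun x y => by
    rw [commutatorElement_def]; group
  rw [this, mul_formula, mul_formula, add_comm l j, mul_inv_rev, mul_assoc, mul_inv_cancel_left,
    ← zpow_neg, ← zpow_add, c, ← zpow_mul]
  congr 1
  linear_combination (-k) * gs_mul_sub d.r j + i * gs_mul_sub d.r l

theorem c_zpow_eq_one_iff (m : ℤ) : d.c ^ m = 1 ↔ (m : ZMod (p ^ d.n)) = 0 := by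
  rw [← orderOf_dvd_iff_zpow_eq_one, orderOf_c, ZMod.intCast_zmod_eq_zero_iff_dvd]

theorem c_zpow_inj {m m' : ℤ} (h : d.c ^ m = d.c ^ m') : (m : ZMod (p ^ d.n)) = m' := by
  rw [zpow_eq_zpow_iff_modEq, orderOf_c] at h
  exact (ZMod.intCast_eq_intCast_iff _ _ _).2 h

/-- First coordinate of a chosen normal form. -/
noncomputable def ci (g : G) : ℤ := (d.gen g).choose

/-- Second coordinate of a chosen normal form. -/
noncomputable def cj (g : G) : ℕ := (d.gen g).choose_spec.choose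

theorem spec (g : G) : g = d.a ^ d.ci g * d.b ^ d.cj g := (d.gen g).choose_spec.choose_spec

/-- Coordinates modulo the centre. -/
noncomputable def φ (g : G) : ZMod (p ^ d.n) × ZMod (p ^ d.n) := (d.ci g, gs d.r (d.cj g))

/-- The exponent of the action on the cyclic normal subgroup. -/
noncomputable def ρ (g : G) : ℤ := d.r ^ d.cj g

theorem dvd_ρ (g : G) : (p : ℤ) ∣ d.ρ g - 1 := d.dvd.trans (sub_one_dvd_pow_sub_one' _ _)

theorem φ_mk (i : ℤ) (j : ℕ) : d.φ (d.a ^ i * d.b ^ j) = ((i : ZMod _), (gs d.r j : ZMod _)) := by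
  have h1 := d.comm_formula i 1 j 0
  have h2 := d.comm_formula i 0 j 1
  rw [d.spec (d.a ^ i * d.b ^ j), comm_formula] at h1 h2
  have h3 := d.c_zpow_inj h1
  have h4 := d.c_zpow_inj h2
  simp only [gs_zero, gs_one, mul_one, mul_zero, sub_zero, zero_sub, Int.cast_neg, neg_inj] at h3 h4
  exact Prod.ext h4 h3

theorem φ_one : d.φ 1 = 0 := by simpa [gs_zero, Prod.mk_zero_zero] using d.φ_mk 0 0

theorem φ_mul (x y : G) : d.φ (x * y) = d.φ x + (d.ρ x : ZMod (p ^ d.n)) • d.φ y := by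
  conv_lhs => rw [d.spec x, d.spec y, mul_formula, φ_mk, gs_add]
  simp [φ, ρ]

theorem φ_pow (x : G) (m : ℕ) : d.φ (x ^ m) = (gs (d.ρ x) m : ZMod (p ^ d.n)) • d.φ x := by
  induction m with
  | zero => simp [φ_one, gs_zero]
  | succ m ih =>
    rw [pow_succ', φ_mul, ih, add_comm m 1, gs_add, gs_one, smul_smul]
    simp [add_smul]

theorem isUnit_ρ (x : G) : IsUnit (d.ρ x : ZMod (p ^ d.n)) := by
  rw [ZMod.coe_int_isUnit_iff_isCoprime]
  push_cast
  exact (((Nat.prime_iff_prime_int.1 d.prime).irreducible.coprime_iff_not_dvd).2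
    (not_dvd_of_dvd_sub_one d.prime (d.dvd_ρ x))).pow_left

theorem exists_φ_pow (x : G) (t : ZMod (p ^ d.n)) : ∃ m : ℕ, d.φ (x ^ m) = t • d.φ x := by
  obtain ⟨m, hm⟩ := exists_gs_eq d.prime d.odd (d.dvd_ρ x) rfl t
  exact ⟨m, by rw [φ_pow, hm]⟩

theorem commute_iff (x y : G) : Commute x y ↔ zdet (d.φ x) (d.φ y) = 0 := by
  rw [← commutatorElement_eq_one_iff_commute]
  conv_lhs => rw [d.spec x, d.spec y, comm_formula, c_zpow_eq_one_iff]
  simp [zdet, φ]

theorem φ_surjective : Function.Surjective d.φ := by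
  rintro ⟨u, v⟩
  obtain ⟨i, rfl⟩ := ZMod.intCast_surjective u
  obtain ⟨j, rfl⟩ := exists_gs_eq d.prime d.odd d.dvd rfl v
  exact ⟨_, d.φ_mk i j⟩

theorem φ_eq_zero_iff (x : G) : d.φ x = 0 ↔ x ∈ center G := by
  rw [mem_center_iff]
  constructor
  · intro h g
    exact ((d.commute_iff g x).2 (by simp [h, zdet])).eq
  · intro h
    apply eq_zero_of_forall_zdet
    intro v
    obtain ⟨g, rfl⟩ := d.φ_surjective v
    exact (d.commute_iff x g).1 (h g).symm

theorem φ_eq_iff (x y : G) : d.φ x = d.φ y ↔ x⁻¹ * y ∈ center G := by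
  rw [← d.φ_eq_zero_iff]
  conv_lhs => rw [← mul_inv_cancel_left x y, φ_mul, left_eq_add, (d.isUnit_ρ x).smul_eq_zero]

theorem commutator_eq : _root_.commutator G = zpowers d.c := by
  apply le_antisymm
  · rw [_root_.commutator_def, Subgroup.commutator_le]
    intro x _ y _
    rw [d.spec x, d.spec y, comm_formula]
    exact zpow_mem_zpowers _ _
  · rw [zpowers_le]
    have := d.comm_formula 0 1 1 0
    simp only [gs_zero, gs_one, mul_one, mul_zero, sub_zero, zpow_one] at this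
    rw [← this]
    exact commutator_mem_commutator (mem_top _) (mem_top _)

theorem card_commutator : Nat.card (_root_.commutator G) = p ^ d.n := by
  rw [commutator_eq, Nat.card_zpowers, orderOf_c]

/-- The image of a subgroup. -/
def img (R : Subgroup G) : AddSubgroup (ZMod (p ^ d.n) × ZMod (p ^ d.n)) where
  carrier := d.φ '' R
  zero_mem' := ⟨1, R.one_mem, d.φ_one⟩
  add_mem' := by
    rintro _ _ ⟨x, hx, rfl⟩ ⟨y, hy, rfl⟩
    obtain ⟨e, he⟩ := (d.isUnit_ρ x).exists_right_inv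
    obtain ⟨m, hm⟩ := d.exists_φ_pow y e
    exact ⟨x * y ^ m, R.mul_mem hx (R.pow_mem hy m), by rw [φ_mul, hm, smul_smul, he, one_smul]⟩
  neg_mem' := by
    rintro _ ⟨x, hx, rfl⟩
    obtain ⟨m, hm⟩ := d.exists_φ_pow x (-1)
    exact ⟨x ^ m, R.pow_mem hx m, by rw [hm, neg_one_smul]⟩

/-- The preimage of a subgroup. -/
def pre (W : AddSubgroup (ZMod (p ^ d.n) × ZMod (p ^ d.n))) : Subgroup G where
  carrier := d.φ ⁻¹' W
  one_mem' := by
    change d.φ 1 ∈ W
    rw [φ_one]; exact W.zero_mem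
  mul_mem' := fun {x y} hx hy => by
    change d.φ (x * y) ∈ W
    rw [φ_mul]
    exact W.add_mem hx (ZMod.smul_mem hy _)
  inv_mem' := fun {x} hx => by
    change d.φ x⁻¹ ∈ W
    have := d.φ_mul x⁻¹ x
    rw [inv_mul_cancel, φ_one, eq_comm, add_eq_zero_iff_eq_neg] at this
    rw [this]
    exact W.neg_mem (ZMod.smul_mem hx _)

theorem mem_img {R : Subgroup G} {v : ZMod (p ^ d.n) × ZMod (p ^ d.n)} :
    v ∈ d.img R ↔ ∃ x ∈ R, d.φ x = v := Iff.rfl

theorem mem_pre {W : AddSubgroup (ZMod (p ^ d.n) × ZMod (p ^ d.n))} {x : G} :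
    x ∈ d.pre W ↔ d.φ x ∈ W := Iff.rfl

theorem img_pre (W : AddSubgroup (ZMod (p ^ d.n) × ZMod (p ^ d.n))) : d.img (d.pre W) = W := by
  ext v
  constructor
  · rintro ⟨x, hx, rfl⟩; exact hx
  · intro hv
    obtain ⟨x, rfl⟩ := d.φ_surjective v
    exact ⟨x, hv, rfl⟩

theorem center_le_pre (W : AddSubgroup (ZMod (p ^ d.n) × ZMod (p ^ d.n))) : center G ≤ d.pre W :=
  fun x hx => by rw [mem_pre, (d.φ_eq_zero_iff x).2 hx]; exact W.zero_mem

theorem pre_img {R : Subgroup G} (h : center G ≤ R) : d.pre (d.img R) = R := by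
  ext x
  constructor
  · rintro ⟨y, hy, e⟩
    simpa using R.mul_mem hy (h ((d.φ_eq_iff y x).1 e))
  · intro hx; exact ⟨x, hx, rfl⟩

theorem pre_mono {W W' : AddSubgroup (ZMod (p ^ d.n) × ZMod (p ^ d.n))} (h : W ≤ W') :
    d.pre W ≤ d.pre W' := fun _ hx => h hx

theorem centralizer_eq (R : Subgroup G) : centralizer (R : Set G) = d.pre (zperp (d.img R)) := by
  ext x
  constructor
  · rintro h _ ⟨y, hy, rfl⟩
    exact (d.commute_iff y x).1 (h y hy)
  · intro h y hy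
    exact (d.commute_iff y x).2 (h _ ⟨y, hy, rfl⟩)

theorem centralizer_singleton_eq (g : G) :
    centralizer ({g} : Set G) = d.pre (zperp (AddSubgroup.zmultiples (d.φ g))) := by
  ext x
  rw [mem_pre, mem_zperp_zmultiples, ← commute_iff, mem_centralizer_singleton_iff]
  exact eq_comm

theorem isMulCommutative_iff (R : Subgroup G) :
    IsMulCommutative R ↔ ∀ u ∈ d.img R, ∀ v ∈ d.img R, zdet u v = 0 := by
  constructor
  · rintro h _ ⟨x, hx, rfl⟩ _ ⟨y, hy, rfl⟩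
    exact (d.commute_iff x y).1 (mul_comm_of_mem h hx hy)
  · intro h
    exact isMulCommutative_of_forall fun x hx y hy =>
      (d.commute_iff x y).2 (h _ ⟨x, hx, rfl⟩ _ ⟨y, hy, rfl⟩)

theorem card_subtype (R : Subgroup G) (S : Set (ZMod (p ^ d.n) × ZMod (p ^ d.n)))
    (hS : ∀ v ∈ S, v ∈ d.img R) :
    Nat.card {g // g ∈ R ∧ d.φ g ∈ S} = Nat.card (R ⊓ center G : Subgroup G) * Nat.card S := by
  choose s hs hs' using hS
  have h1 : ∀ (z : (R ⊓ center G : Subgroup G)) (v : S), d.φ (s v.1 v.2 * z) = v := by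
    intro z v
    rw [φ_mul, (d.φ_eq_zero_iff z).2 z.2.2, smul_zero, add_zero, hs']
  let F : (R ⊓ center G : Subgroup G) × S → {g // g ∈ R ∧ d.φ g ∈ S} := fun x =>
    ⟨s x.2.1 x.2.2 * x.1, R.mul_mem (hs _ _) x.1.2.1, by rw [h1]; exact x.2.2⟩
  rw [← Nat.card_prod]
  refine (Nat.card_eq_of_bijective F ⟨?_, ?_⟩).symm
  · rintro ⟨z, v⟩ ⟨z', v'⟩ h
    have h2 : s v.1 v.2 * z = s v'.1 v'.2 * z' := congrArg Subtype.val h
    have h3 : v = v' := Subtype.ext (by rw [← h1 z v, h2, h1])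
    subst h3
    rw [Subtype.ext (mul_left_cancel h2)]
  · rintro ⟨g, hg, hgS⟩
    refine ⟨(⟨(s _ hgS)⁻¹ * g, R.mul_mem (R.inv_mem (hs _ _)) hg,
      (d.φ_eq_iff _ _).1 (hs' _ _)⟩, ⟨_, hgS⟩), Subtype.ext ?_⟩
    exact mul_inv_cancel_left _ _

theorem card_eq (R : Subgroup G) :
    Nat.card R = Nat.card (R ⊓ center G : Subgroup G) * Nat.card (d.img R) := by
  rw [← show _ = _ * Nat.card (d.img R) from d.card_subtype R (d.img R) (fun _ h => h)]
  exact Nat.card_congr (Equiv.subtypeEquivRight fun g => ⟨fun h => ⟨h, g, h, rfl⟩, fun h => h.1⟩)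

theorem card_setOf (S : Set (ZMod (p ^ d.n) × ZMod (p ^ d.n))) :
    Nat.card {g // d.φ g ∈ S} = Nat.card (center G) * Nat.card S := by
  have := d.card_subtype ⊤ S (fun v _ => by
    obtain ⟨x, hx⟩ := d.φ_surjective v
    exact ⟨x, mem_top x, hx⟩)
  simpa only [mem_top, true_and, top_inf_eq] using this

theorem card_pre (W : AddSubgroup (ZMod (p ^ d.n) × ZMod (p ^ d.n))) :
    Nat.card (d.pre W) = Nat.card (center G) * Nat.card W := d.card_setOf W

theorem card_group : Nat.card G = Nat.card (center G) * (p ^ d.n) ^ 2 := by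
  have := d.card_pre ⊤
  rw [AddSubgroup.card_top, card_zmod_prod] at this
  rw [← this, ← card_top, show d.pre ⊤ = ⊤ from eq_top_iff.2 fun x _ => AddSubgroup.mem_top (d.φ x)]

end MetaData

end Cfsg.Agent.H3
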