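/-
Auxiliary lemmas (sections, ranks, nilpotent quotients) for the odd order project.
-/
import Cfsg.Agent.FT.Base

set_option autoImplicit false

namespace Cfsg.Agent.FT.A3

open Subgroup Cfsg Cfsg.Agent
open scoped commutatorElement

universe u

variable {G : Type u} [Group G]

section bar

variable {Y N : Subgroup G} [(N.subgroupOf Y).Normal]

theorem hall_bar {π : Set ℕ} {H K : Subgroup G} (hK : K ≤ Y) (h : IsPiHallOf π H K) :
    IsPiHallOf π (H1.bar Y N H) (H1.bar Y N K) := by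
  refine H1.isPiHallOf_map ?_ _
  rw [← isPiHallOf_map_iff (f := Y.subtype) Y.subtype_injective,
    map_subgroupOf_eq_of_le ((hall_le h).trans hK), map_subgroupOf_eq_of_le hK]
  exact h

theorem isSyl_bar [Finite G] {p : ℕ} (hp : p.Prime) {P K : Subgroup G} (hK : K ≤ Y)
    (h : IsSyl p P K) : IsSyl p (H1.bar Y N P) (H1.bar Y N K) :=
  (isSyl_iff_hall hp).2 (hall_bar hK ((isSyl_iff_hall hp).1 h))

theorem isPi_bar {π : Set ℕ} {H : Subgroup G} (h : IsPiSubgroup π H) :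
    IsPiSubgroup π (H1.bar Y N H) :=
  fun p hp hd => h p hp (hd.trans (H1.card_bar_dvd H))

theorem isPi_unbar {π : Set ℕ} (hNY : N ≤ Y) (hN : IsPiSubgroup π N)
    {K : Subgroup (Y ⧸ N.subgroupOf Y)} (hK : IsPiSubgroup π K) :
    IsPiSubgroup π (H1.unbar Y N K) := by
  intro p hp hd
  rw [H1.card_unbar hNY] at hd
  rcases (Nat.Prime.dvd_mul hp).1 hd with h | h
  · exact hN p hp h
  · exact hK p hp h

theorem unbar_normal (K : Subgroup (Y ⧸ N.subgroupOf Y)) (hK : ⊤ ≤ 𝐍(K)) : H1.unbar Y N K ⊲ Y :=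
  ⟨H1.unbar_le K, H1.le_normalizer_unbar le_rfl (le_top.trans hK)⟩

theorem bar_unbar_inf {H : Subgroup G} {A : Subgroup (Y ⧸ N.subgroupOf Y)}
    (hA : A ≤ H1.bar Y N H) : H1.bar Y N (H1.unbar Y N A ⊓ H) = A := by
  refine le_antisymm ((H1.bar_mono inf_le_left).trans (H1.bar_unbar A).le) fun z hz => ?_
  obtain ⟨y, hy, rfl⟩ := H1.mem_bar.1 (hA hz)
  exact H1.qmk_mem_bar ⟨H1.coe_mem_unbar.2 hz, hy⟩

/-- A subgroup meeting `N` trivially maps isomorphically onto its image. -/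
theorem exists_inj_bar {P : Subgroup G} (hP : P ≤ Y) (hd : N ⊓ P = ⊥) :
    ∃ f : P →* Y ⧸ N.subgroupOf Y, Function.Injective f ∧
      ∀ K : Subgroup G, K ≤ P → (K.subgroupOf P).map f = H1.bar Y N K := by
  refine ⟨(H1.qmk Y N).comp (inclusion hP), ?_, fun K hK => ?_⟩
  · rw [injective_iff_map_eq_one]
    intro x hx
    have h1 : (x : G) ∈ N ⊓ P := ⟨(H1.qmk_eq_one_iff (Y := Y) (N := N) (y := inclusion hP x)).1 hx, x.2⟩
    rw [hd] at h1
    exact Subtype.ext h1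
  · ext z
    rw [H1.mem_bar]
    constructor
    · rintro ⟨x, hx, rfl⟩
      exact ⟨inclusion hP x, hx, rfl⟩
    · rintro ⟨y, hy, rfl⟩
      exact ⟨⟨y, hK hy⟩, hy, rfl⟩

theorem isElem_bar_iff {p n : ℕ} {P : Subgroup G} (hP : P ≤ Y) (hd : N ⊓ P = ⊥) :
    IsElem p n (H1.bar Y N P) ↔ IsElem p n P := by
  obtain ⟨f, hf, h⟩ := exists_inj_bar hP hd
  rw [← h P le_rfl, isElem_map_iff hf, ← isElem_map_iff (f := P.subtype) P.subtype_injective,
    map_subgroupOf_eq_of_le le_rfl]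

theorem isCyclic_bar_iff {P : Subgroup G} (hP : P ≤ Y) (hd : N ⊓ P = ⊥) :
    IsCyclic (H1.bar Y N P) ↔ IsCyclic P := by
  obtain ⟨f, hf, h⟩ := exists_inj_bar hP hd
  rw [← h P le_rfl, isCyclic_map_iff hf, ← isCyclic_map_iff (f := P.subtype) P.subtype_injective,
    map_subgroupOf_eq_of_le le_rfl]

theorem isNilpotent_bar_iff {P : Subgroup G} (hP : P ≤ Y) (hd : N ⊓ P = ⊥) :
    Group.IsNilpotent (H1.bar Y N P) ↔ Group.IsNilpotent P := by
  obtain ⟨f, hf, h⟩ := exists_inj_bar hP hd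
  rw [← h P le_rfl, isNilpotent_map_iff hf,
    ← isNilpotent_map_iff (f := P.subtype) P.subtype_injective, map_subgroupOf_eq_of_le le_rfl]

theorem pRank_bar_of_disj [Finite G] {p : ℕ} (hp : p.Prime) {P : Subgroup G} (hP : P ≤ Y)
    (hd : N ⊓ P = ⊥) : pRank p (H1.bar Y N P) = pRank p P := by
  obtain ⟨f, hf, h⟩ := exists_inj_bar hP hd
  rw [← h P le_rfl, pRank_map hf hp, ← pRank_map (f := P.subtype) P.subtype_injective hp,
    map_subgroupOf_eq_of_le le_rfl]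

/-- The `p`-rank is unchanged modulo a `p'`-group. -/
theorem pRank_bar [Finite G] {p : ℕ} (hp : p.Prime) (hN : ¬ p ∣ 𝐨(N)) {H : Subgroup G}
    (hH : H ≤ Y) : pRank p (H1.bar Y N H) = pRank p H := by
  obtain ⟨P, hP⟩ := exists_isSyl hp H
  rw [← (isSyl_bar (N := N) hp hH hP).pRank_eq hp, ← hP.pRank_eq hp]
  refine pRank_bar_of_disj hp (hP.le.trans hH) ?_
  rw [inf_comm]
  exact isPi_disjoint ((isPi_singleton_iff hp).2 hP.pgrp) ((isPi_compl_singleton_iff' hp).2 hN)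

end bar

variable [Finite G]

/-- `K N / N` is nilpotent when `K` is. -/
theorem nilMod_sup {K N : Subgroup G} (hn : K ≤ 𝐍(N)) (h : NilMod K N) : NilMod (N ⊔ K) N := by
  haveI : (N.subgroupOf (N ⊔ K)).Normal :=
    H1.normal_subgroupOf_of_le (sup_le (le_norm_self N) hn)
  rw [nilMod_iff_bar (Y := N ⊔ K) le_rfl, H1.bar_sup le_sup_left le_sup_right, H1.bar_self,
    bot_sup_eq, ← nilMod_iff_bar le_sup_right]
  exact h

/-- A Hall subgroup `H ≥ N` of `K` with `K / N` nilpotent is normalized by everything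
normalizing `K` and `N`. -/
theorem le_norm_hall_of_nilMod {π : Set ℕ} {M K N H : Subgroup G} (hK : M ≤ 𝐍(K)) (hN : M ≤ 𝐍(N))
    (hKN : K ≤ 𝐍(N)) (hNH : N ≤ H) (h : IsPiHallOf π H K) (hnil : NilMod K N) : M ≤ 𝐍(H) := by
  haveI : (N.subgroupOf (K ⊔ M)).Normal := H1.normal_subgroupOf_of_le (sup_le hKN hN)
  have h1 := norm_le_norm_hall_of_isNilpotent ((nilMod_iff_bar (Y := K ⊔ M) le_sup_left).1 hnil)
    (hall_bar (N := N) (Y := K ⊔ M) le_sup_left h)
  have h2 := H1.le_normalizer_unbar (Y := K ⊔ M) (N := N) le_sup_right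
    ((H1.bar_le_normalizer hK).trans h1)
  rwa [H1.unbar_bar_of_le hNH ((hall_le h).trans le_sup_left)] at h2

/-- If `K / N` is nilpotent and `H` is a Hall subgroup of `K` then `N H` is normalized by
everything normalizing `K` and `N`. -/
theorem le_norm_sup_hall_of_nilMod {π : Set ℕ} {M K N H : Subgroup G} (hK : M ≤ 𝐍(K))
    (hN : M ≤ 𝐍(N)) (hKN : N ⊲ K) (h : IsPiHallOf π H K) (hnil : NilMod K N) :
    M ≤ 𝐍(N ⊔ H) := by
  haveI : (N.subgroupOf (K ⊔ M)).Normal := H1.normal_subgroupOf_of_le (sup_le hKN.2 hN)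
  have h1 := norm_le_norm_hall_of_isNilpotent ((nilMod_iff_bar (Y := K ⊔ M) le_sup_left).1 hnil)
    (hall_bar (N := N) (Y := K ⊔ M) le_sup_left h)
  have h2 := H1.le_normalizer_unbar (Y := K ⊔ M) (N := N) le_sup_right
    ((H1.bar_le_normalizer hK).trans h1)
  rwa [H1.unbar_bar (hKN.1.trans le_sup_left) ((hall_le h).trans le_sup_left), sup_comm] at h2

/-- A group with normal `p`-complements for all primes is nilpotent. -/
theorem isNilpotent_of_forall_hasNPC {H : Subgroup G}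
    (h : ∀ p : ℕ, p.Prime → p ∣ 𝐨(H) → HasNPC p H) : Group.IsNilpotent H := by
  refine isNilpotent_of_forall_isSyl_normal fun p hp _ => ?_
  obtain ⟨P, hP⟩ := exists_isSyl hp H
  refine ⟨P, hP, fun g hg => mem_norm_of_conj_le ?_⟩
  -- the intersection of the `q`-complements for `q ≠ p` is a normal `p`-subgroup
  let K : Subgroup G := H ⊓ ⨅ q : {q : ℕ // q.Prime ∧ q ≠ p}, H2.pPrimeCoreOf q.1 H
  have hle : ∀ Q : Subgroup G, Q ≤ H → IsPGroup p Q → Q ≤ K := by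
    intro Q hQ hQp
    refine le_inf hQ (le_iInf fun q => ?_)
    have hq : ¬ q.1 ∣ 𝐨(Q) := fun hd => q.2.2 (eq_of_prime_dvd_card_of_isPGroup hp q.2.1 hQp hd)
    by_cases hqH : q.1 ∣ 𝐨(H)
    · exact (h q.1 q.2.1 hqH).le_pPrimeCoreOf q.2.1 hQ hq
    · exact (hasNPC_of_not_dvd q.2.1 hqH).le_pPrimeCoreOf q.2.1 hQ hq
  have hK : IsPGroup p K := by
    rw [← isPi_singleton_iff hp]
    intro q hq hd
    by_contra hne
    exact not_dvd_card_pPrimeCoreOf hq H
      (hd.trans (card_dvd_of_le (inf_le_right.trans (iInf_le _ (⟨q, hq, hne⟩ : {q : ℕ // q.Prime ∧ q ≠ p})))))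
  rw [← hP.eq_of_le hp (hle P hP.le hP.pgrp) inf_le_left hK]
  exact hle _ (conj_le_of_mem inf_le_left hg) ((isPGroup_map_iff (conj_injective g)).2 hK)

/-- A `p`-subgroup of `K` centralizes `Q` when `K` normalizes `Q` and `[K : C_K(Q)]` is prime
to `p`. -/
theorem le_cent_of_not_dvd_relIndex {π : Set ℕ} {K P Q : Subgroup G} (hK : K ≤ 𝐍(Q)) (hP : P ≤ K)
    (hπ : IsPiSubgroup π P) (h : ∀ p : ℕ, p.Prime → p ∈ π → ¬ p ∣ 𝐂(Q).relIndex K) :
    P ≤ 𝐂(Q) := by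
  haveI : (𝐂(Q).subgroupOf K).Normal := H1.normal_subgroupOf_of_le (H1.le_normalizer_centralizer hK)
  rw [← H1.bar_eq_bot_iff (N := 𝐂(Q)) hP]
  refine eq_bot_of_isPi_of_isPi_compl (isPi_bar hπ) fun p hp hd hπ' => h p hp hπ' ?_
  rw [← H1.card_bar (Y := K) (N := 𝐂(Q)) le_rfl]
  exact hd.trans (card_dvd_of_le (H1.bar_mono hP))

/-- Fixed points on a product under a coprime action. -/
theorem sup_inf_cent_eq {A K N : Subgroup G} (hAK : A ≤ 𝐍(K)) (hAN : A ≤ 𝐍(N)) (hKN : K ≤ 𝐍(N))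
    (hcK : 𝐨(A).Coprime 𝐨(K)) (hs : Group.IsSolvable A ∨ Group.IsSolvable K) :
    (N ⊔ K) ⊓ 𝐂(A) = (N ⊓ 𝐂(A)) ⊔ (K ⊓ 𝐂(A)) := by
  refine le_antisymm ?_ (sup_le (inf_le_inf_right _ le_sup_left) (inf_le_inf_right _ le_sup_right))
  haveI : (N.subgroupOf ((N ⊔ K) ⊔ A)).Normal :=
    H1.normal_subgroupOf_of_le (sup_le (sup_le (le_norm_self N) hKN) hAN)
  have hNY : N ≤ (N ⊔ K) ⊔ A := le_sup_left.trans le_sup_left
  have hKY : K ≤ (N ⊔ K) ⊔ A := le_sup_right.trans le_sup_left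
  have h1 := H1.bar_inf_centralizer_bar (Y := (N ⊔ K) ⊔ A) (N := N) le_sup_right hKY hAK hcK hs
  have h2 : (N ⊔ K) ⊓ 𝐂(A) ≤ (K ⊓ 𝐂(A)) ⊔ N := by
    rw [← H1.bar_le_bar_iff hNY (inf_le_left.trans le_sup_left) (inf_le_left.trans hKY), ← h1]
    refine le_inf ?_ ?_
    · refine (H1.bar_mono inf_le_left).trans ?_
      rw [H1.bar_sup hNY hKY, H1.bar_self, bot_sup_eq]
    · rw [H1.bar_le_centralizer_iff (inf_le_left.trans le_sup_left) le_sup_right,
        comm_eq_bot_iff.2 inf_le_right]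
      exact bot_le
  intro x hx
  obtain ⟨n, hn, k, hk, rfl⟩ := (H1.mem_sup_iff_of_le_normalizer' (inf_le_left.trans hKN)).1 (h2 hx)
  refine mul_mem (mem_sup_left ⟨hn, ?_⟩) (mem_sup_right hk)
  simpa using Subgroup.mul_mem _ hx.2 (Subgroup.inv_mem _ hk.2)

/-- In a nonabelian group of order `p ^ 3` the centre and the derived group have order `p`
and coincide. -/
theorem center_eq_der_of_card_cube {p : ℕ} (hp : p.Prime) {S : Subgroup G} (hS : 𝐨(S) = p ^ 3)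
    (hna : ¬ IsMulCommutative S) : 𝐨(𝐙(S)) = p ∧ ⁅S, S⁆ = 𝐙(S) := by
  have hpS : IsPGroup p S := isPGroup_of_card_eq hS
  have hnil := isNilpotent_of_isPGroup hp hpS
  have hS1 : S ≠ ⊥ := ne_bot_of_prime_dvd hp (hS ▸ dvd_pow_self p (by norm_num))
  have hZ := center_normal S
  haveI : ((𝐙(S)).subgroupOf S).Normal := H1.normal_subgroupOf_of_le hZ.2
  have hmul := H1.card_mul_relIndex hZ.1
  obtain ⟨k, hk, hcard⟩ := (Nat.dvd_prime_pow hp).1 (hS ▸ card_dvd_of_le hZ.1)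
  have hidx : (𝐙(S)).relIndex S = p ^ (3 - k) := by
    rw [hcard, hS] at hmul
    have : p ^ 3 = p ^ k * p ^ (3 - k) := by rw [← pow_add]; congr 1; omega
    rw [this] at hmul
    exact Nat.eq_of_mul_eq_mul_left (pow_pos hp.pos k) hmul
  have hk0 : k ≠ 0 := by
    rintro rfl
    exact center_ne_bot hnil hS1 (Subgroup.eq_bot_of_card_eq _ (by simpa using hcard))
  have hk2 : k < 2 := by
    by_contra hlt
    apply hna
    refine CycMod.isMulComm (M := 𝐙(S)) ?_ inf_le_right hZ.1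
    rw [cycMod_iff_bar (Y := S) hZ.1 le_rfl]
    have hc := H1.card_bar (Y := S) (N := 𝐙(S)) le_rfl
    rw [hidx] at hc
    rcases (by omega : 3 - k = 0 ∨ 3 - k = 1) with h | h
    · rw [h, pow_zero] at hc
      rw [Subgroup.eq_bot_of_card_eq _ hc]
      infer_instance
    · rw [h, pow_one] at hc
      exact isCyclic_of_card_prime (hc ▸ hp)
  obtain rfl : k = 1 := by omega
  rw [pow_one] at hcard
  refine ⟨hcard, ?_⟩
  have hder : ⁅S, S⁆ ≤ 𝐙(S) := by
    rw [← H1.isMulCommutative_bar_iff (Y := S) (N := 𝐙(S)) le_rfl]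
    haveI : Fact p.Prime := ⟨hp⟩
    have hc := H1.card_bar (Y := S) (N := 𝐙(S)) le_rfl
    rw [hidx] at hc
    exact IsPGroup.isMulCommutative_of_card_eq_prime_sq hc
  rcases eq_bot_or_eq_of_card_prime (hcard ▸ hp) hder with h | h
  · exact absurd (isMulComm_iff_comm_eq_bot.2 h) hna
  · exact h

theorem piOf_eq_singleton {p : ℕ} (hp : p.Prime) {A : Subgroup G} (hA : IsPGroup p A)
    (h1 : A ≠ ⊥) : piOf A = {p} := by
  ext q
  constructor
  · rintro ⟨hq, hd⟩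
    exact eq_of_prime_dvd_card_of_isPGroup hp hq hA hd
  · rintro rfl
    exact ⟨hp, prime_dvd_card_of_isPGroup hp hA h1⟩

theorem snIn_of_isNilpotent {P A : Subgroup G} (hP : Group.IsNilpotent P) (hA : A ≤ P) :
    H2.SnIn P A := by
  apply H2.snIn_of_le_fittingOf
  rwa [H2.fittingOf_eq_self hP]

end Cfsg.Agent.FT.A3
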