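import Cfsg.Agent.H2.MaxClass
import Cfsg.Agent.H3.RankOne
import Cfsg.Agent.H6.ZAction

/-! Suzuki's criterion for maximal class and Taussky's theorem. -/

namespace Cfsg.Agent.H3

open Subgroup
open scoped commutatorElement

universe u

variable {G : Type*} [Group G]

theorem card_centralizer_quot_le [Finite G] (N : Subgroup G) [N.Normal] (x : G) :
    Nat.card (centralizer ({QuotientGroup.mk' N x} : Set (G ⧸ N))) ≤
      Nat.card (centralizer ({x} : Set G)) := by
  have h1 := H2.relIndex_centralizer_le_card (H := H2.cmod N x) (N := N) (x := x)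
    fun g hg => H2.mem_cmod.1 hg
  have h2 := card_inf_mul_relIndex (centralizer ({x} : Set G)) (H2.cmod N x)
  have h3 : Nat.card (H2.cmod N x) = _ := card_comap_mk' N _
  refine Nat.le_of_mul_le_mul_right ?_ (Nat.card_pos (α := N))
  rw [← h3, ← h2]
  exact Nat.mul_le_mul (card_le_of_le inf_le_left) h1

theorem card_quot_zpowers {p n : ℕ} (hp : p.Prime) (hG : Nat.card G = p ^ (n + 1)) {z : G}
    [(zpowers z).Normal] (hz : orderOf z = p) : Nat.card (G ⧸ zpowers z) = p ^ n := by
  have := (zpowers z).index_mul_card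
  rw [Nat.card_zpowers, hz, hG, pow_succ] at this
  exact Nat.eq_of_mul_eq_mul_right hp.pos this

theorem suzuki_aux {p : ℕ} [hp : Fact p.Prime] (n : ℕ) : ∀ (G : Type u) [Group G] [Finite G],
    Nat.card G = p ^ (n + 2) → ∀ x : G, Nat.card (centralizer ({x} : Set G)) ≤ p ^ 2 →
      H2.lcs G n ≠ ⊥ := by
  induction n with
  | zero =>
    intro G _ _ hG x _ h
    have h1 : Nat.card (⊤ : Subgroup G) = 1 := card_eq_one.2 h
    rw [card_top, hG] at h1
    exact (Nat.one_lt_pow (by omega) hp.out.one_lt).ne' h1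
  | succ n ih =>
    intro G _ _ hG x hx h
    have hP : IsPGroup p G := IsPGroup.of_card hG
    have htop : (⊤ : Subgroup G) ≠ ⊥ := fun e => by
      have h1 : Nat.card (⊤ : Subgroup G) = 1 := card_eq_one.2 e
      rw [card_top, hG] at h1
      exact (Nat.one_lt_pow (by omega) hp.out.one_lt).ne' h1
    obtain ⟨z, -, hzc, hz⟩ := exists_central_orderOf_eq_prime hP ⊤ htop
    haveI := zpowers_normal_of_mem_center hzc
    have h1 := ih (G ⧸ zpowers z) (card_quot_zpowers hp.out hG hz) (QuotientGroup.mk' _ x)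
      ((card_centralizer_quot_le _ x).trans hx)
    rw [← H2.map_lcs_of_surjective (QuotientGroup.mk'_surjective _), Ne,
      ← H7.le_iff_map_mk'_eq_bot] at h1
    have h2 : zpowers z < center G :=
      lt_of_le_of_ne (zpowers_le.2 hzc) fun e => h1 (e ▸ H2.lcs_le_center h)
    have h3 := H2.mul_card_le_of_lt (hP.to_subgroup _) h2
    rw [Nat.card_zpowers, hz, ← pow_two] at h3
    have h4 : center G = centralizer ({x} : Set G) :=
      eq_of_le_of_card_ge (center_le_centralizer _) (hx.trans h3)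
    have h5 : x ∈ center G := h4 ▸ mem_centralizer_singleton_iff.2 rfl
    have h6 : centralizer ({x} : Set G) = ⊤ :=
      eq_top_iff.2 fun g _ => mem_centralizer_singleton_iff.2 (mem_center_iff.1 h5 g)
    rw [h6, card_top, hG, Nat.pow_le_pow_iff_right hp.out.one_lt] at hx
    omega

/-- Suzuki: a `p`-group with an element whose centralizer has order at most `p ^ 2` has maximal
class. -/
theorem lcs_ne_bot_of_card_centralizer_le [Finite G] {p n : ℕ} [hp : Fact p.Prime]
    (hG : Nat.card G = p ^ n) (hn : 2 ≤ n) {x : G}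
    (hx : Nat.card (centralizer ({x} : Set G)) ≤ p ^ 2) : H2.lcs G (n - 2) ≠ ⊥ :=
  suzuki_aux (n - 2) G (by rw [hG, Nat.sub_add_cancel hn]) x hx

theorem center_ne_bot' [Finite G] {p : ℕ} [hp : Fact p.Prime] (hP : IsPGroup p G)
    (h : Nat.card G ≠ 1) : p ≤ Nat.card (center G) := by
  have htop : (⊤ : Subgroup G) ≠ ⊥ := fun e => by
    have h1 : Nat.card (⊤ : Subgroup G) = 1 := card_eq_one.2 e
    rw [card_top] at h1
    exact h h1
  obtain ⟨z, -, hzc, hz⟩ := exists_central_orderOf_eq_prime hP ⊤ htop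
  rw [← hz, ← Nat.card_zpowers]
  exact card_le_of_le (zpowers_le.2 hzc)

/-- A self-centralizing subgroup of order at most `p ^ 2` is the centralizer of one element, unless
it is everything. -/
theorem exists_centralizer_le_of_selfCentralizing [Finite G] {p : ℕ} [hp : Fact p.Prime]
    (hP : IsPGroup p G) {A : Subgroup G} (hA : Nat.card A ≤ p ^ 2)
    (hC : centralizer (A : Set G) ≤ A) : ∃ x ∈ A, centralizer ({x} : Set G) ≤ A := by
  by_cases h : A ≤ center G
  · refine ⟨1, A.one_mem, fun g _ => hC fun a ha => ?_⟩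
    exact (mem_center_iff.1 (h ha) g).symm
  obtain ⟨x, hxA, hx⟩ := SetLike.not_le_iff_exists.1 h
  have hZ : center G ≤ A := (center_le_centralizer _).trans hC
  have h1 : Nat.card G ≠ 1 := fun e => by
    haveI := (Nat.card_eq_one_iff_unique.1 e).1
    exact hx (Subsingleton.elim x 1 ▸ one_mem _)
  have h2 := H2.sup_zpowers_eq_of_card (hP.to_subgroup A) hZ
    (hA.trans (by rw [pow_two]; exact Nat.mul_le_mul_left _ (center_ne_bot' hP h1))) hxA hx
  refine ⟨x, hxA, fun g hg => hC ?_⟩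
  have : A ≤ centralizer ({g} : Set G) := by
    rw [← h2]
    exact sup_le (center_le_centralizer _) (zpowers_le.2 (mem_centralizer_singleton_iff.2
      (mem_centralizer_singleton_iff.1 hg).symm))
  intro a ha
  exact mem_centralizer_singleton_iff.1 (this ha)

theorem lcs_ne_bot_of_selfCentralizing [Finite G] {p n : ℕ} [hp : Fact p.Prime]
    (hG : Nat.card G = p ^ n) (hn : 2 ≤ n) {A : Subgroup G} (hA : Nat.card A ≤ p ^ 2)
    (hC : centralizer (A : Set G) ≤ A) : H2.lcs G (n - 2) ≠ ⊥ := by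
  obtain ⟨x, -, hx⟩ := exists_centralizer_le_of_selfCentralizing (IsPGroup.of_card hG) hA hC
  exact lcs_ne_bot_of_card_centralizer_le hG hn ((card_le_of_le hx).trans hA)

theorem three_le_of_not_isMulCommutative [Finite G] {p n : ℕ} [hp : Fact p.Prime]
    (hG : Nat.card G = p ^ n) (hna : ¬ IsMulCommutative G) : 3 ≤ n := by
  have := H2.pow_le_card_of_lcs_ne_bot (IsPGroup.of_card hG) le_rfl
    (mt H2.isMulCommutative_iff_lcs_one.2 hna)
  rwa [hG, Nat.pow_le_pow_iff_right hp.out.one_lt] at this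

theorem eq_top_of_index_two {H K : Subgroup G} (hH : H.index = 2) (h : H ≤ K) {y : G} (hy : y ∉ H)
    (hyK : y ∈ K) : K = ⊤ :=
  (isCoatom_of_index_prime (hH ▸ Nat.prime_two)).2 K (lt_of_le_of_ne h fun e => hy (e ▸ hyK))

theorem commutator_le_zpowers_of_index_two [Finite G] {a z y : G} (hz : z ∈ center G)
    (hH : (zpowers a ⊔ zpowers z).index = 2) (hy : y ∉ zpowers a ⊔ zpowers z) :
    _root_.commutator G ≤ zpowers ⁅a, y⁆ := by
  set H := zpowers a ⊔ zpowers z with hHdef
  have hab : IsMulCommutative H := isMulCommutative_sup_zpowers inferInstance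
    (center_le_centralizer _ hz)
  haveI : H.Normal := normal_of_index_eq_two hH
  have ha : a ∈ H := mem_sup_left (mem_zpowers a)
  have hay : y * a * y⁻¹ ∈ H := Normal.conj_mem inferInstance a ha y
  have hc : ⁅a, y⁆ ∈ H := by
    have : ⁅a, y⁆ = a * (y * a * y⁻¹)⁻¹ := by rw [commutatorElement_def]; group
    rw [this]; exact H.mul_mem ha (H.inv_mem hay)
  have hy2 : y * y ∈ H := by rw [mul_mem_iff_of_index_two hH]
  have hyc : y * ⁅a, y⁆ * y⁻¹ = ⁅a, y⁆⁻¹ := by
    have h1 := mul_comm_of_mem hab hy2 (H.inv_mem ha)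
    calc y * ⁅a, y⁆ * y⁻¹ = y * a * y⁻¹ * (y * y * a⁻¹) * (y * y)⁻¹ := by
          rw [commutatorElement_def]; group
      _ = ⁅a, y⁆⁻¹ := by rw [h1, commutatorElement_def]; group
  haveI : (zpowers ⁅a, y⁆).Normal := by
    rw [← normalizer_eq_top_iff]
    refine eq_top_of_index_two hH ?_ hy ?_
    · refine le_trans ?_ (centralizer_le_normalizer _)
      intro h hh
      rw [mem_centralizer_zpowers_iff, mul_comm_of_mem hab hh hc, mul_inv_cancel_right]
    · refine mem_normalizer_fintype fun w hw => ?_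
      obtain ⟨k, rfl⟩ := mem_zpowers_iff.1 hw
      rw [← conj_zpow, hyc]
      exact zpow_mem (inv_mem (mem_zpowers _)) k
  have h1 : H2.cmod (zpowers ⁅a, y⁆) a = ⊤ := by
    refine eq_top_of_index_two hH (fun h hh => H2.mem_cmod.2 ?_) hy (H2.mem_cmod'.2 (mem_zpowers _))
    rw [commutatorElement_eq_one_iff_mul_comm.2 (mul_comm_of_mem hab hh ha)]
    exact one_mem _
  have h2 : ∀ x, H ≤ H2.cmod (zpowers ⁅a, y⁆) x := fun x =>
    sup_le (zpowers_le.2 (H2.mem_cmod'.2 (H2.mem_cmod.1 (h1 ▸ mem_top x))))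
      (zpowers_le.2 (H2.mem_cmod'.2 (by
        rw [commutatorElement_eq_one_iff_mul_comm.2 (mem_center_iff.1 hz x)]
        exact one_mem _)))
  have h3 : H2.cmod (zpowers ⁅a, y⁆) y = ⊤ :=
    eq_top_of_index_two hH (h2 y) hy (H2.mem_cmod.2 (by simp))
  rw [_root_.commutator_def, commutator_le]
  intro g _ x _
  exact H2.mem_cmod.1 (eq_top_of_index_two hH (h2 x) hy
    (H2.mem_cmod'.2 (H2.mem_cmod.1 (h3 ▸ mem_top x))) ▸ mem_top g)

theorem exists_sq_ne_one (hna : ¬ IsMulCommutative G) : ∃ g : G, g ^ 2 ≠ 1 := by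
  by_contra! h
  exact hna ⟨⟨fun a b => by
    have h1 : ∀ g : G, g⁻¹ = g := fun g => inv_eq_of_mul_eq_one_right (by rw [← sq, h])
    rw [← h1 (a * b), mul_inv_rev, h1, h1]⟩⟩

theorem index_zpowers_le_two_of_card_le [Finite G] (hG : IsPGroup 2 G) (h8 : Nat.card G ≤ 8)
    (hna : ¬ IsMulCommutative G) : ∃ x : G, (zpowers x).index ≤ 2 := by
  haveI := Fact.mk Nat.prime_two
  obtain ⟨g, hg⟩ := exists_sq_ne_one hna
  obtain ⟨k, hk⟩ := IsPGroup.iff_orderOf.mp hG g
  have h2 : 2 ≤ k := by
    by_contra hlt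
    apply hg
    rw [← orderOf_dvd_iff_pow_eq_one, hk]
    have : k = 0 ∨ k = 1 := by omega
    rcases this with rfl | rfl <;> simp
  have h4 : 4 ≤ orderOf g := hk ▸ Nat.pow_le_pow_right (n := 2) two_pos h2
  have := (zpowers g).index_mul_card
  rw [Nat.card_zpowers] at this
  exact ⟨g, by nlinarith⟩

theorem taussky_aux (n : ℕ) : ∀ (G : Type u) [Group G] [Finite G],
    Nat.card G = 2 ^ n → (H2.lcs G 1).index = 4 → ∃ x : G, (zpowers x).index ≤ 2 := by
  haveI := Fact.mk Nat.prime_two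
  induction n with
  | zero =>
    intro G _ _ hG h
    have := Nat.le_of_dvd Nat.card_pos (H2.lcs G 1).index_dvd_card
    omega
  | succ n ih =>
    intro G _ _ hG h
    have hP : IsPGroup 2 G := IsPGroup.of_card hG
    by_cases h1 : H2.lcs G 1 = ⊥
    · rw [h1, index_bot] at h
      haveI : Nontrivial G := Finite.one_lt_card_iff_nontrivial.1 (by omega)
      obtain ⟨x, hx⟩ := exists_ne (1 : G)
      have h2 := (zpowers x).index_mul_card
      have h3 : orderOf x ≠ 1 := by simpa using hx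
      have h4 := orderOf_pos x
      rw [Nat.card_zpowers] at h2
      exact ⟨x, by nlinarith [show 2 ≤ orderOf x by omega]⟩
    have hna := mt H2.isMulCommutative_iff_lcs_one.1 h1
    by_cases h8 : Nat.card G ≤ 8
    · exact index_zpowers_le_two_of_card_le hP h8 hna
    obtain ⟨z, hz1, hzc, hz⟩ := exists_central_orderOf_eq_prime hP _ h1
    haveI := zpowers_normal_of_mem_center hzc
    obtain ⟨a', ha'⟩ := ih (G ⧸ zpowers z) (card_quot_zpowers Nat.prime_two hG hz) (by
      rw [← H2.map_lcs_of_surjective (QuotientGroup.mk'_surjective _),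
        index_map_eq _ (QuotientGroup.mk'_surjective _) (by simpa using hz1), h])
    obtain ⟨a, rfl⟩ := QuotientGroup.mk'_surjective _ a'
    rw [← MonoidHom.map_zpowers, index_map, QuotientGroup.ker_mk',
      MonoidHom.range_eq_top.2 (QuotientGroup.mk'_surjective _), index_top, mul_one] at ha'
    by_cases hza : z ∈ zpowers a
    · exact ⟨a, by rwa [sup_eq_left.2 (zpowers_le.2 hza)] at ha'⟩
    exfalso
    have hab : IsMulCommutative (zpowers a ⊔ zpowers z : Subgroup G) :=
      isMulCommutative_sup_zpowers inferInstance (center_le_centralizer _ hzc)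
    have hne : (zpowers a ⊔ zpowers z : Subgroup G) ≠ ⊤ := fun e =>
      hna ⟨⟨fun u v => mul_comm_of_mem hab (e ▸ mem_top u) (e ▸ mem_top v)⟩⟩
    have h2 : (zpowers a ⊔ zpowers z : Subgroup G).index = 2 := by
      have h3 := mt index_eq_one.1 hne
      have h4 : (zpowers a ⊔ zpowers z : Subgroup G).index ≠ 0 := index_ne_zero_of_finite
      omega
    obtain ⟨y, -, hy⟩ := SetLike.exists_of_lt (lt_top_iff_ne_top.2 hne)
    have h3 := commutator_le_zpowers_of_index_two hzc h2 hy
    have h4 : a ^ 2 ∈ H2.lcs G 1 := by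
      rw [← QuotientGroup.eq_one_iff, QuotientGroup.mk_pow]
      by_contra h5
      apply H2.not_isCyclic_quotient_lcs_one hP h1
      refine isCyclic_of_orderOf_eq_card (a : G ⧸ H2.lcs G 1) ?_
      rw [← index_eq_card, h]
      refine orderOf_eq_prime_pow (p := 2) (n := 1) (by simpa using h5) ?_
      have := pow_card_eq_one' (x := (a : G ⧸ H2.lcs G 1))
      rwa [← index_eq_card, h] at this
    have h5 : a ^ 2 = 1 := by
      by_contra h5
      obtain ⟨k, hk⟩ := exists_pow_orderOf_eq_prime hP h5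
      have := H6.mem_zpowers_of_orderOf_dvd (P := zpowers ⁅a, y⁆) (h3 hz1) (h3 (pow_mem h4 k))
        (by rw [hz, hk])
      exact hza (zpowers_le.2 (pow_mem (pow_mem (mem_zpowers a) 2) k) this)
    have h6 := card_sup_mul_card_inf (zpowers a) (zpowers z)
    have h7 : orderOf a ≤ 2 := Nat.le_of_dvd two_pos (orderOf_dvd_of_pow_eq_one h5)
    have h9 := (zpowers a ⊔ zpowers z : Subgroup G).index_mul_card
    have h10 : 0 < Nat.card (zpowers a ⊓ zpowers z : Subgroup G) := Nat.card_pos
    rw [Nat.card_zpowers, Nat.card_zpowers, hz] at h6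
    rw [h2] at h9
    nlinarith

theorem conj_eq_self_imp_of_index_two {x : G} (hx : (zpowers x).index = 2)
    (hna : ¬ IsMulCommutative G) (g : G) (hg : g * x * g⁻¹ = x) : g ∈ zpowers x := by
  by_contra h
  have hab := isMulCommutative_sup_zpowers (A := zpowers x) inferInstance
    (mem_centralizer_zpowers_iff.2 hg)
  have e := eq_top_of_index_two hx le_sup_left h (mem_sup_right (mem_zpowers g))
  exact hna ⟨⟨fun u v => mul_comm_of_mem hab (e ▸ mem_top u) (e ▸ mem_top v)⟩⟩

/-- Taussky: a non-abelian finite `2`-group with `|G : G'| = 4` has a cyclic subgroup of index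
two. -/
theorem taussky_index [Finite G] (hG : IsPGroup 2 G) (hna : ¬ IsMulCommutative G)
    (h4 : (_root_.commutator G).index = 4) : ∃ x : G, (zpowers x).index = 2 := by
  haveI := Fact.mk Nat.prime_two
  obtain ⟨n, hn⟩ := IsPGroup.iff_card.1 hG
  obtain ⟨x, hx⟩ := taussky_aux n G hn h4
  have h1 : (zpowers x).index ≠ 1 := fun e =>
    hna (isMulCommutative_of_zpowers_eq_top (index_eq_one.1 e))
  have h2 : (zpowers x).index ≠ 0 := index_ne_zero_of_finite
  exact ⟨x, by omega⟩

/-- Taussky: a non-abelian finite `2`-group with `|G : G'| = 4` is dihedral, quaternion or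
semidihedral (generators and relations). -/
theorem taussky [Finite G] (hG : IsPGroup 2 G) (hna : ¬ IsMulCommutative G)
    (h4 : (_root_.commutator G).index = 4) : ∃ (n : ℕ) (x y : G), 2 ≤ n ∧ orderOf x = 2 ^ n ∧
      (zpowers x).index = 2 ∧ y ∉ zpowers x ∧
        ((y ^ 2 = 1 ∧ y * x * y⁻¹ = x⁻¹) ∨ (y ^ 2 = x ^ 2 ^ (n - 1) ∧ y * x * y⁻¹ = x⁻¹) ∨
          (3 ≤ n ∧ y ^ 2 = 1 ∧ y * x * y⁻¹ = x ^ (2 ^ (n - 1) - 1))) := by
  haveI := Fact.mk Nat.prime_two
  obtain ⟨x, hx⟩ := taussky_index hG hna h4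
  haveI : (zpowers x).Normal := normal_of_index_eq_two hx
  obtain ⟨n, hn⟩ := IsPGroup.iff_orderOf.mp hG x
  obtain ⟨h2, ⟨-, -, y, hy, h⟩ | ⟨h3, y, hy, hy2, hyx⟩⟩ :=
    selfCentralizing_cyclic_cases hG hna hn (conj_eq_self_imp_of_index_two hx hna)
  · exact ⟨n, x, y, h2, hn, hx, hy, h⟩
  exfalso
  have h5 := commutator_le_zpowers_of_index_two (a := x) (y := y) (one_mem (center G))
    (by simpa using hx) (by simpa using hy)
  have h6 : ⁅x, y⁆ ^ 2 = 1 := by
    obtain ⟨e, he⟩ := exists_conj_eq_zpow (x := x) y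
    have h7 : ⁅x, y⁆ = x * (x ^ e)⁻¹ := by rw [← he, commutatorElement_def]; group
    rw [← conj_pow, he] at hyx
    calc ⁅x, y⁆ ^ 2 = x ^ 2 * ((x ^ e) ^ 2)⁻¹ := by rw [h7]; group
      _ = 1 := by rw [hyx, mul_inv_cancel]
  have h7 := card_le_of_le h5
  have h8 : orderOf ⁅x, y⁆ ≤ 2 := Nat.le_of_dvd two_pos (orderOf_dvd_of_pow_eq_one h6)
  have h9 := (_root_.commutator G).index_mul_card
  have h10 := (zpowers x).index_mul_card
  have h11 : 2 ^ 3 ≤ 2 ^ n := Nat.pow_le_pow_right two_pos (h3 rfl)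
  rw [Nat.card_zpowers] at h7 h10
  rw [h4] at h9
  rw [hx, hn] at h10
  omega

end Cfsg.Agent.H3
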