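import Cfsg.Agent.H3.BGroup
import Cfsg.Agent.S4022
import Cfsg.Agent.H6.Supplement

/-! Finite groups in which abelian subgroups of equal order are conjugate, II: solvable case. -/

namespace Cfsg.Agent.H3

open Subgroup Cfsg
open scoped commutatorElement

universe u

variable {G : Type*} [Group G]

theorem BG.le_centralizer_of_normal [Finite G] (hB : BG G) {p q : ℕ} [hp : Fact p.Prime]
    [hq : Fact q.Prime] {M Q : Subgroup G} [M.Normal] (hE : IsElementaryAbelian p M)
    (hQ : IsElementaryAbelian q Q) (hnc : ¬ IsCyclic Q) (hpq : p ≠ q)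
    [(Q ⊔ M).Normal] : Q ≤ centralizer (M : Set G) := by
  by_contra hcon
  obtain ⟨i, hi⟩ := IsPGroup.iff_card.1 (isPGroup_of_isElementaryAbelian hE)
  obtain ⟨j, hj⟩ := IsPGroup.iff_card.1 (isPGroup_of_isElementaryAbelian hQ)
  have hcop : (Nat.card Q).Coprime (Nat.card M) := by
    rw [hi, hj]; exact Nat.Coprime.pow _ _ ((Nat.coprime_primes hq.out hp.out).2 hpq.symm)
  have hM1 : M ≠ ⊥ := by
    rintro rfl
    exact hcon fun a _ b hb => by rw [mem_bot.1 hb, one_mul, mul_one]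
  obtain ⟨x, hxQ, hx1, hx⟩ := H1.exists_centralizer_ne_bot hQ.1 hnc le_normalizer_of_normal hcop hM1
  have hxC : x ∉ centralizer (M : Set G) := fun h =>
    hcon (hB.le_of_exponent h (orderOf_eq_prime (hQ.2 x hxQ) hx1) hQ.2)
  rw [← centralizer_zpowers] at hx
  set X := zpowers x with hX
  have hXQ : X ≤ Q := zpowers_le.2 hxQ
  have hD := H1.centralizer_inf_commutator_eq_bot (A := X) hE.1 le_normalizer_of_normal
    (H1.coprime_of_le hcop hXQ le_rfl)
  have hMX : ⁅M, X⁆ ≠ ⊥ := fun e =>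
    hxC (H1.commutator_eq_bot_iff_le_centralizer'.1 e (mem_zpowers x))
  have hMXM : ⁅M, X⁆ ≤ M := commutator_le_left M X
  obtain ⟨⟨m₁, hm₁⟩, h1⟩ := ne_bot_iff_exists_ne_one.1 hx
  obtain ⟨⟨m₂, hm₂⟩, h2⟩ := ne_bot_iff_exists_ne_one.1 hMX
  have h1' : m₁ ≠ 1 := fun e => h1 (Subtype.ext e)
  have h2' : m₂ ≠ 1 := fun e => h2 (Subtype.ext e)
  have hQX : Q ≤ centralizer (X : Set G) :=
    (le_centralizer_iff_isMulCommutative.2 hQ.1).trans (centralizer_le hXQ)
  have hMM : M ≤ centralizer (M : Set G) := le_centralizer_iff_isMulCommutative.2 hE.1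
  have hn1 : Q ⊔ M ≤ normalizer ((M ⊓ centralizer (X : Set G) : Subgroup G) : Set G) :=
    sup_le (H1.le_normalizer_inf le_normalizer_of_normal (hQX.trans le_normalizer))
      (H1.le_normalizer_of_le_centralizer (hMM.trans (centralizer_le inf_le_left)))
  have hn2 : Q ⊔ M ≤ normalizer ((⁅M, X⁆ : Subgroup G) : Set G) :=
    sup_le (H1.le_normalizer_commutator le_normalizer_of_normal
      (H1.le_normalizer_of_le_centralizer hQX))
      (H1.le_normalizer_of_le_centralizer (hMM.trans (centralizer_le hMXM)))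
  have h12 : m₁ * m₂ ≠ 1 := fun e => by
    have : m₂ ∈ centralizer (X : Set G) ⊓ ⁅M, X⁆ :=
      ⟨(mul_eq_one_iff_inv_eq.1 e) ▸ Subgroup.inv_mem _ hm₁.2, hm₂⟩
    rw [hD, mem_bot] at this
    exact h2' this
  have key : ∀ y ∈ Q ⊔ M, y * (m₁ * m₂) * y⁻¹ = m₁ * m₂ → y * m₁ * y⁻¹ = m₁ := by
    intro y hy h
    have h3 := H1.conj_mem_of_le_normalizer hn1 hy hm₁
    have h4 := H1.conj_mem_of_le_normalizer hn2 hy hm₂
    have h5 : m₁⁻¹ * (y * m₁ * y⁻¹) = m₂ * (y * m₂ * y⁻¹)⁻¹ := by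
      calc m₁⁻¹ * (y * m₁ * y⁻¹) = m₁⁻¹ * (y * (m₁ * m₂) * y⁻¹) * (y * m₂ * y⁻¹)⁻¹ := by group
        _ = _ := by rw [h]; group
    have : m₁⁻¹ * (y * m₁ * y⁻¹) ∈ centralizer (X : Set G) ⊓ ⁅M, X⁆ :=
      ⟨Subgroup.mul_mem _ (Subgroup.inv_mem _ hm₁.2) h3.2,
        h5 ▸ Subgroup.mul_mem _ hm₂ (Subgroup.inv_mem _ h4)⟩
    rw [hD, mem_bot, inv_mul_eq_one] at this
    exact this.symm
  obtain ⟨g, hg⟩ := hB (zpowers m₁) (zpowers (m₁ * m₂)) inferInstance inferInstance (by
    rw [Nat.card_zpowers, Nat.card_zpowers, orderOf_eq_prime (hE.2 _ hm₁.1) h1',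
      orderOf_eq_prime (hE.2 _ (mul_mem hm₁.1 (hMXM hm₂))) h12])
  have h6 : (Q ⊔ M) ⊓ centralizer (zpowers (m₁ * m₂) : Set G) =
      (Q ⊔ M) ⊓ centralizer (zpowers m₁ : Set G) := by
    refine eq_of_le_of_card_ge (fun y hy => ⟨hy.1, mem_centralizer_zpowers_iff.2
      (key y hy.1 (mem_centralizer_zpowers_iff.1 hy.2))⟩) ?_
    rw [← H1.card_map_conj _ g, hg, H1.centralizer_map_conj]
    exact card_le_of_le (le_inf (H1.map_conj_le_of_mem_normalizer inf_le_left
      (le_normalizer_of_normal (mem_top g))) (map_mono inf_le_right))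
  have h7 := mem_centralizer_zpowers_iff.1 (h6.ge ⟨mem_sup_left hxQ,
    mem_centralizer_zpowers_iff.2 (by rw [hm₁.2 x (mem_zpowers x), mul_inv_cancel_right])⟩).2
  have h8 : m₂ ∈ centralizer (X : Set G) := by
    rw [hX, centralizer_zpowers, mem_centralizer_singleton_iff]
    rw [← mul_assoc, hm₁.2 x (mem_zpowers x), mul_assoc, mul_assoc, mul_right_inj, ← mul_assoc,
      mul_inv_eq_iff_eq_mul] at h7
    exact h7.symm
  have : m₂ ∈ centralizer (X : Set G) ⊓ ⁅M, X⁆ := ⟨h8, hm₂⟩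
  rw [hD, mem_bot] at this
  exact h2' this

theorem BG.sylow_normal_aux (G : Type u) [Group G] [Finite G] : BG G → Group.IsSolvable G →
    ∀ (q : ℕ) [Fact q.Prime] (Q : Sylow q G), ¬ IsCyclic Q → (∀ x ∈ (Q : Subgroup G), x ^ q = 1) →
      (Q : Subgroup G).Normal ∧ IsMulCommutative Q := by
  refine L.induction_on_card (P := fun G _ _ => BG G → Group.IsSolvable G →
    ∀ (q : ℕ) [Fact q.Prime] (Q : Sylow q G), ¬ IsCyclic Q → (∀ x ∈ (Q : Subgroup G), x ^ q = 1) →
      (Q : Subgroup G).Normal ∧ IsMulCommutative Q) G ?_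
  intro G _ _ ih hB hs q hq Q hnc he
  haveI : Nontrivial G := by
    by_contra h
    rw [not_nontrivial_iff_subsingleton] at h
    exact hnc inferInstance
  obtain ⟨M, p, hM, hp, hE⟩ := L.exists_isMinNormal_isElementaryAbelian (G := G)
  haveI := hM.1
  haveI := Fact.mk hp
  have hMp := isPGroup_of_isElementaryAbelian hE
  by_cases hpq : p = q
  · subst hpq
    obtain ⟨m, hm, hmo⟩ := exists_mem_orderOf_eq_prime hMp hM.2.1
    rw [le_antisymm (hB.le_of_exponent hm hmo he) (hMp.le_sylow_of_normal Q)]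
    exact ⟨hM.1, hE.1⟩
  have hd : (Q : Subgroup G) ⊓ M = ⊥ :=
    disjoint_iff.1 (IsPGroup.disjoint_of_ne q p (Ne.symm hpq) _ _ Q.isPGroup' hMp)
  let T := Q.mapSurjective (QuotientGroup.mk'_surjective M)
  have hinj : Function.Injective ((QuotientGroup.mk' M).subgroupMap Q) := by
    rw [injective_iff_map_eq_one]
    intro a ha
    have : (a : G) ∈ (Q : Subgroup G) ⊓ M :=
      ⟨a.2, (QuotientGroup.eq_one_iff _).1 (congrArg Subtype.val ha)⟩
    rw [hd] at this
    exact Subtype.ext this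
  let e : Q ≃* T := MulEquiv.ofBijective _ ⟨hinj, (QuotientGroup.mk' M).subgroupMap_surjective Q⟩
  obtain ⟨h1, h2⟩ := ih (G ⧸ M) (L.card_quotient_lt M hM.2.1)
    (hB.quotient M inferInstance (Or.inr hs)) inferInstance q T (fun h => hnc (e.isCyclic.2 h))
    (by rintro _ ⟨x, hx, rfl⟩; rw [← map_pow, he x hx, map_one])
  have h3 : IsMulCommutative Q := isMulCommutative_of_map_mk' h2 hd
  haveI : ((Q : Subgroup G) ⊔ M).Normal := by
    have := h1.comap (QuotientGroup.mk' M)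
    rwa [Sylow.coe_mapSurjective, comap_map_eq, QuotientGroup.ker_mk'] at this
  have h4 := hB.le_centralizer_of_normal hE ⟨h3, he⟩ hnc hpq
  refine ⟨?_, h3⟩
  rw [← normalizer_eq_top_iff, eq_top_iff]
  intro x hx
  obtain ⟨g, hg, hgx⟩ := H1.frattini_argument (le_sup_left : (Q : Subgroup G) ≤ (Q : Subgroup G) ⊔ M)
    Q.isPGroup'
    (fun h => Q.not_dvd_index (h.trans (relIndex_dvd_index_of_le le_sup_left)))
    (le_normalizer_of_normal hx)
  exact (mul_mem_cancel_left ((sup_le le_normalizer (H1.le_normalizer_of_le_centralizer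
    (le_centralizer_iff.1 h4))) hg)).1 hgx

theorem sup_zpowers_eq_of_quaternion {S N : Subgroup G} {x y : S} (hidx : (zpowers x).index = 2)
    (hy : y ∉ zpowers x) (h1 : (y : G) ∈ N) (h2 : ((x * y : S) : G) ∈ N) : S ≤ N := by
  have := eq_top_of_index_two (K := N.subgroupOf S) hidx
    (zpowers_le.2 ((mul_mem_cancel_right h1).1 h2)) hy h1
  exact subgroupOf_eq_top.1 this

theorem BG.sylow_two_normal [Finite G] [Group.IsSolvable G] (hB : BG G)
    (hodd : ∀ p : ℕ, p.Prime → p ≠ 2 → ∀ P : Subgroup G, IsPGroup p P → IsCyclic P)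
    (S : Sylow 2 G) (hS : ∀ A : Subgroup S, IsElementaryAbelian 2 A → IsCyclic A)
    (hnc : ¬ IsCyclic S) : (S : Subgroup G).Normal := by
  haveI := Fact.mk Nat.prime_two
  obtain ⟨-, n, x, y, hn, hx, hidx, hy, h1, h2⟩ :=
    (abelian_cyclic_cases S.isPGroup' hS).resolve_left hnc
  have ho := fun g hg => orderOf_eq_four_of_not_mem (g := g) (by omega) hx hidx hy h1 h2 hg
  have hxy : x * y ∉ zpowers x := fun h => hy ((mul_mem_cancel_left (mem_zpowers x)).1 h)
  have key : ∀ (N : Subgroup G) [N.Normal], ∀ a ∈ N, orderOf a = 4 → (S : Subgroup G) ≤ N :=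
    fun N _ a ha hao => sup_zpowers_eq_of_quaternion hidx hy
      (hB.mem_of_orderOf_eq ha (by rw [hao, orderOf_coe, ho y hy]))
      (hB.mem_of_orderOf_eq (M := N) ha (by rw [hao, orderOf_coe, ho _ hxy]))
  have hR := L.pCore_le_sylow S
  suffices h : ∃ a ∈ pCore 2 G, orderOf a = 4 by
    obtain ⟨a, ha, hao⟩ := h
    rw [le_antisymm (key _ a ha hao) hR]
    infer_instance
  by_cases hF : IsCyclic (fittingSubgroup G)
  · exfalso
    have h3 : _root_.commutator G ≤ fittingSubgroup G := by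
      refine le_trans ?_ L.centralizer_fittingSubgroup_le
      rw [_root_.commutator_def, commutator_le]
      exact fun a _ b _ => H6.commutatorElement_mem_centralizer_of_isCyclic
        (le_normalizer_of_normal (mem_top a)) (le_normalizer_of_normal (mem_top b))
    have h4 : ∃ a ∈ _root_.commutator G, orderOf a = 4 := by
      have h5 : (x : G) ^ 2 ∈ _root_.commutator G := by
        have : (x : G) ^ 2 = ⁅(x : G), (y : G)⁆ := by
          have h6 : (y : G) * x * (y : G)⁻¹ = (x : G)⁻¹ := congrArg Subtype.val h2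
          calc (x : G) ^ 2 = x * ((x : G)⁻¹)⁻¹ := by rw [inv_inv, sq]
            _ = _ := by rw [← h6, commutatorElement_def]; group
        rw [this]
        exact commutator_mem_commutator (mem_top _) (mem_top _)
      have h6 : ((x * y : S) : G) ^ 2 ∈ _root_.commutator G := by
        have h7 := sq_zpow_mul_of_quaternion h2 1
        rw [zpow_one, h1, show n - 1 = (n - 2) + 1 by omega, pow_succ' 2, pow_mul] at h7
        rw [← Subgroup.coe_pow, h7]
        exact pow_mem h5 _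
      obtain ⟨g, hg⟩ := hB.exists_conj_mem_zpowers (a := (y : G)) (m := (x * y : S))
        (by rw [orderOf_coe, orderOf_coe, ho _ hy, ho _ hxy])
      obtain ⟨e, he⟩ := mem_zpowers_iff.1 hg
      have h7 : ((x * y : S) : G) ^ e * (y : G)⁻¹ ∈ _root_.commutator G := by
        rw [he]; exact commutator_mem_commutator (mem_top g) (mem_top (y : G))
      obtain ⟨k, rfl | rfl⟩ := Int.even_or_odd' e
      · rw [zpow_mul, zpow_ofNat, mul_mem_cancel_left (zpow_mem h6 k), inv_mem_iff] at h7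
        exact ⟨y, h7, by rw [orderOf_coe, ho _ hy]⟩
      · rw [zpow_add_one, zpow_mul, zpow_ofNat, mul_assoc, mul_mem_cancel_left (zpow_mem h6 k),
          Subgroup.coe_mul, mul_inv_cancel_right] at h7
        refine ⟨x ^ 2 ^ (n - 2), pow_mem h7 _, orderOf_eq_four_of_sq ?_⟩
        rw [← pow_mul, ← pow_succ, show n - 2 + 1 = n - 1 by omega]
        exact orderOf_half (by omega) (by rw [orderOf_coe, hx])
    obtain ⟨a, ha, hao⟩ := h4
    exact hnc (isCyclic_of_le (key _ a (h3 ha) hao))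
  have h3 : ∃ (p : ℕ) (_ : Fact p.Prime) (P : Sylow p (fittingSubgroup G)), ¬ IsCyclic P := by
    by_contra! h
    haveI : IsZGroup (fittingSubgroup G) := ⟨fun p hp P => h p ⟨hp⟩ P⟩
    exact hF inferInstance
  obtain ⟨p, hp, P, hP⟩ := h3
  have hP' : ¬ IsCyclic ((P : Subgroup (fittingSubgroup G)).map (fittingSubgroup G).subtype) :=
    fun h => hP ((equivMapOfInjective _ _ (subtype_injective _)).isCyclic.2 h)
  obtain rfl : p = 2 := by
    by_contra h
    exact hP' (hodd p hp.out h _ (P.isPGroup'.map _))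
  have h4 := L.le_pCore_of_le_fittingSubgroup Nat.prime_two (P.isPGroup'.map _) (map_subtype_le _)
  by_contra! h
  refine hP' (isCyclic_of_le (H' := zpowers (x : G)) fun a ha => ?_)
  by_contra h5
  refine h a (h4 ha) ?_
  rw [← ho ⟨a, hR (h4 ha)⟩ fun ⟨i, hi⟩ => h5 ⟨i, congrArg Subtype.val hi⟩, orderOf_mk]

theorem exists_le_card_eq_not_mem [Finite G] {p : ℕ} [hp : Fact p.Prime] {M W : Subgroup G}
    (hE : IsElementaryAbelian p M) (hW : W < M) (hW1 : W ≠ ⊥) {m m' : G} (hm : m ∈ M) (hm' : m' ∈ M)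
    (h : m' ∉ zpowers m) :
    ∃ V : Subgroup G, V ≤ M ∧ m ∈ V ∧ m' ∉ V ∧ Nat.card V = Nat.card W := by
  have hMp := isPGroup_of_isElementaryAbelian hE
  have hMM : M ≤ centralizer (M : Set G) := le_centralizer_iff_isMulCommutative.2 hE.1
  have hn : ∀ A B : Subgroup G, A ≤ M → B ≤ M → A ≤ normalizer (B : Set G) := fun A B hA hB =>
    H1.le_normalizer_of_le_centralizer (hA.trans (hMM.trans (centralizer_le hB)))
  have hU : zpowers m ⊔ zpowers m' ≤ M := sup_le (zpowers_le.2 hm) (zpowers_le.2 hm')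
  obtain ⟨C, hCM, h1, h2⟩ := H1.exists_complement_of_isElementaryAbelian hp.out hE hU
  have hD : zpowers m ⊔ C ≤ M := sup_le (zpowers_le.2 hm) hCM
  have h3 : m' ∉ zpowers m ⊔ C := fun h3 => by
    have : m' ∈ (zpowers m ⊔ zpowers m') ⊓ (zpowers m ⊔ C) :=
      ⟨mem_sup_right (mem_zpowers m'), h3⟩
    rw [H1.dedekind_left (hn _ _ (zpowers_le.2 hm) hCM) le_sup_left, h1, sup_bot_eq] at this
    exact h this
  have h4 := H1.card_sup_dvd (hn _ _ (zpowers_le.2 hm') hD)
  rw [← sup_assoc, sup_comm (zpowers m'), h2, Nat.card_zpowers,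
    orderOf_eq_prime (hE.2 _ hm') fun e => h (e ▸ one_mem _)] at h4
  have h5 := (H2.mul_card_le_of_lt hMp hW).trans (Nat.le_of_dvd
    (Nat.mul_pos hp.out.pos Nat.card_pos) h4)
  obtain ⟨a, ha⟩ := IsPGroup.iff_card.1 (hMp.to_le hW.le)
  obtain ⟨b, hb⟩ := IsPGroup.iff_card.1 (hMp.to_le hD)
  obtain ⟨c, hc⟩ := IsPGroup.iff_card.1 (hMp.to_le (zpowers_le.2 hm))
  have h6 : a ≤ b := by
    have := Nat.le_of_mul_le_mul_left h5 hp.out.pos
    rwa [ha, hb, Nat.pow_le_pow_iff_right hp.out.one_lt] at this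
  have h7 : c ≤ a := by
    have h8 : a ≠ 0 := by
      rintro rfl
      exact hW1 (card_eq_one.1 ha)
    have h9 := orderOf_dvd_of_pow_eq_one (hE.2 _ hm)
    rw [← Nat.card_zpowers, hc] at h9
    have := (Nat.pow_dvd_pow_iff_le_right hp.out.one_lt).1 (h9.trans (pow_one p).symm.dvd)
    omega
  obtain ⟨K, hK, hK'⟩ := Sylow.exists_subgroup_card_pow_prime_le p (m := a)
    (hb ▸ pow_dvd_pow p h6) ((zpowers m).subgroupOf (zpowers m ⊔ C))
    ((Nat.card_congr (subgroupOfEquivOfLe le_sup_left).toEquiv).trans hc) h7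
  refine ⟨K.map (Subgroup.subtype _), (map_subtype_le K).trans hD,
    ⟨⟨m, mem_sup_left (mem_zpowers m)⟩, hK' (mem_zpowers m), rfl⟩,
    fun h => h3 (map_subtype_le K h), ?_⟩
  rw [card_map_of_injective (subtype_injective _), hK, ha]

theorem conj_eq_or_eq_inv {p : ℕ} (hp : p.Prime) {m g : G} (hm : m ^ p = 1)
    (h : g * m * g⁻¹ ∈ zpowers m) (h2 : g ^ 2 * m * (g ^ 2)⁻¹ = m) :
    g * m * g⁻¹ = m ∨ g * m * g⁻¹ = m⁻¹ := by
  by_cases h1 : m = 1
  · simp [h1]
  haveI := Fact.mk hp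
  have ho := orderOf_eq_prime hm h1
  obtain ⟨e, he⟩ := mem_zpowers_iff.1 h
  rw [pow_conj_of_conj he.symm, zpow_eq_self_iff_dvd, ho,
    show e ^ 2 - 1 = (e - 1) * (e - -1) by ring] at h2
  rw [← he]
  rcases (Nat.prime_iff_prime_int.1 hp).dvd_or_dvd h2 with h | h
  · exact Or.inl (zpow_eq_self_iff_dvd.2 (ho ▸ h))
  · exact Or.inr ((zpow_eq_zpow_iff_dvd.2 (ho ▸ h)).trans (zpow_neg_one m))

/-- the key lemma: a quaternion Sylow subgroup normalizing a proper nontrivial subgroup of `M`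
centralizes `M` -/
theorem BG.le_centralizer_of_quaternion [Finite G] (hB : BG G) {p : ℕ} [hp : Fact p.Prime]
    (hp2 : p ≠ 2) {M W R S : Subgroup G} [M.Normal] [R.Normal] (hE : IsElementaryAbelian p M)
    (hW : W < M) (hW1 : W ≠ ⊥) (hR : R ≤ normalizer (W : Set G)) (hSR : S ≤ R)
    {x y : S} {n : ℕ} (hn : 2 ≤ n) (hx : orderOf x = 2 ^ n) (hidx : (zpowers x).index = 2)
    (hy : y ∉ zpowers x) (h1 : y ^ 2 = x ^ 2 ^ (n - 1)) (h2 : y * x * y⁻¹ = x⁻¹) :
    S ≤ centralizer (M : Set G) := by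
  have ho := fun g hg => orderOf_eq_four_of_not_mem (g := g) (by omega) hx hidx hy h1 h2 hg
  have hxy : x * y ∉ zpowers x := fun h => hy ((mul_mem_cancel_left (mem_zpowers x)).1 h)
  have hcomm : ∀ V : Subgroup G, V ≤ M → IsMulCommutative V := fun V hV =>
    (IsElementaryAbelian_mono hE hV).1
  have h3 : ∀ r ∈ R, ∀ m ∈ M, r * m * r⁻¹ ∈ zpowers m := by
    intro r hr m hm
    by_contra hc
    obtain ⟨V, hVM, hmV, hV, hVc⟩ := exists_le_card_eq_not_mem hE hW hW1 hm
      (Normal.conj_mem inferInstance m hm r) hc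
    obtain ⟨g, rfl⟩ := hB W V (hcomm W hW.le) (hcomm V hVM) hVc.symm
    rw [H1.mem_map_conj] at hmV hV
    have := H1.conj_mem_of_le_normalizer hR (Normal.conj_mem' inferInstance r hr g) hmV
    exact hV (by simpa [mul_assoc] using this)
  have h4 : ∀ m ∈ M, ((x : G) ^ 2) ∈ centralizer (zpowers m : Set G) := by
    intro m hm
    have : (x : G) ^ 2 = ⁅(x : G), (y : G)⁆ := by
      have h6 : (y : G) * x * (y : G)⁻¹ = (x : G)⁻¹ := congrArg Subtype.val h2
      calc (x : G) ^ 2 = x * ((x : G)⁻¹)⁻¹ := by rw [inv_inv, sq]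
        _ = _ := by rw [← h6, commutatorElement_def]; group
    rw [this]
    exact H6.commutatorElement_mem_centralizer_of_isCyclic
      (H5.mem_normalizer_zpowers_of_conj_mem (h3 _ (hSR x.2) m hm))
      (H5.mem_normalizer_zpowers_of_conj_mem (h3 _ (hSR y.2) m hm))
  have key : ∀ a ∈ centralizer (M : Set G), orderOf a = 4 → S ≤ centralizer (M : Set G) :=
    fun a ha hao => sup_zpowers_eq_of_quaternion hidx hy
      (hB.mem_of_orderOf_eq ha (by rw [hao, orderOf_coe, ho y hy]))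
      (hB.mem_of_orderOf_eq (M := centralizer (M : Set G)) ha (by rw [hao, orderOf_coe, ho _ hxy]))
  have key2 : ∀ a : G, (centralizer ({a} : Set G)).subgroupOf M = ⊤ →
      a ∈ centralizer (M : Set G) := fun a ha m hm =>
    mem_centralizer_singleton_iff.1 (subgroupOf_eq_top.1 ha hm)
  by_contra hc
  obtain ⟨m, hm1, hm2, hm3⟩ := H2.exists_not_mem_three
    ((centralizer ({(x : G)} : Set G)).subgroupOf M)
    ((centralizer ({(y : G)} : Set G)).subgroupOf M)
    ((centralizer ({((x * y : S) : G)} : Set G)).subgroupOf M)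
    (isPGroup_of_isElementaryAbelian hE) hp2
    (fun e => hc (key ((x : G) ^ 2 ^ (n - 2)) (pow_mem (key2 _ e) _) (orderOf_eq_four_of_sq (by
      rw [← pow_mul, ← pow_succ, show n - 2 + 1 = n - 1 by omega]
      exact orderOf_half (by omega) (by rw [orderOf_coe, hx])))))
    (fun e => hc (key _ (key2 _ e) (by rw [orderOf_coe, ho _ hy])))
    (fun e => hc (key _ (key2 _ e) (by rw [orderOf_coe, ho _ hxy])))
  have h5 : ∀ a : G, a * m * a⁻¹ = m → m ∈ (centralizer ({a} : Set G)).subgroupOf M :=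
    fun a ha => mem_centralizer_singleton_iff.2 (mul_inv_eq_iff_eq_mul.1 ha).symm
  have h6 := (conj_eq_or_eq_inv hp.out (hE.2 _ m.2) (h3 _ (hSR x.2) m m.2)
    (mem_centralizer_zpowers_iff.1 (h4 m m.2))).resolve_left fun h => hm1 (h5 _ h)
  have h7 := (conj_eq_or_eq_inv hp.out (hE.2 _ m.2) (h3 _ (hSR y.2) m m.2)
    (mem_centralizer_zpowers_iff.1 (by
      rw [← Subgroup.coe_pow, h1, show n - 1 = (n - 2) + 1 by omega, pow_succ' 2, pow_mul]
      exact pow_mem (h4 m m.2) _))).resolve_left fun h => hm2 (h5 _ h)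
  refine hm3 (h5 _ ?_)
  calc ((x * y : S) : G) * m * ((x * y : S) : G)⁻¹ =
        ((x : G) * ((y : G) * m * (y : G)⁻¹)⁻¹ * (x : G)⁻¹)⁻¹ := by
        rw [Subgroup.coe_mul]; group
    _ = m := by rw [h7, inv_inv, h6, inv_inv]

/-- the primes whose Sylow subgroup is normal and elementary abelian -/
def eaPrimes (G : Type*) [Group G] : Set ℕ :=
  {p | IsElementaryAbelian p (pCore p G) ∧ ¬ p ∣ (pCore p G).index}

theorem pCore_le_piCore [Finite G] {π : Set ℕ} {p : ℕ} (hp : p.Prime) (h : p ∈ π) :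
    pCore p G ≤ piCore π G := by
  rw [L.pCore_eq_piCore hp]
  exact L.piCore_mono (Set.singleton_subset_iff.2 h)

theorem isPiHall_eaPrimes [Finite G] : IsPiHall (eaPrimes G) (piCore (eaPrimes G) G) :=
  ⟨L.isPiSubgroup_piCore _, fun _ hp h hd =>
    h.2 (hd.trans (index_dvd_of_le (pCore_le_piCore hp h)))⟩

theorem le_pCore_of_le_piCore [Finite G] {p : ℕ} [hp : Fact p.Prime] {P : Subgroup G}
    (hP : IsPGroup p P) (h : P ≤ piCore (eaPrimes G) G) (h1 : P ≠ ⊥) :
    p ∈ eaPrimes G ∧ P ≤ pCore p G := by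
  obtain ⟨m, hm, hmo⟩ := exists_mem_orderOf_eq_prime hP h1
  have h2 : p ∈ eaPrimes G :=
    L.isPiSubgroup_piCore _ p hp.out (hmo ▸ orderOf_dvd_natCard _ (h hm))
  exact ⟨h2, H6.le_of_isPGroup_of_not_dvd_index hP h2.2⟩

theorem piCore_eaPrimes_le_centralizer [Finite G] :
    piCore (eaPrimes G) G ≤ centralizer (piCore (eaPrimes G) G : Set G) := by
  refine H1.le_of_forall_isPGroup_le fun p hp P hPN hP _ => ?_
  rw [le_centralizer_iff]
  refine H1.le_of_forall_isPGroup_le fun q hq Q hQN hQ _ => ?_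
  haveI := Fact.mk hp
  haveI := Fact.mk hq
  by_cases h1 : Q = ⊥
  · rw [h1]; exact bot_le
  by_cases h2 : P = ⊥
  · rw [le_centralizer_iff, h2]; exact bot_le
  obtain ⟨h3, h4⟩ := le_pCore_of_le_piCore hP hPN h2
  obtain ⟨h5, h6⟩ := le_pCore_of_le_piCore hQ hQN h1
  refine h6.trans (le_trans ?_ (centralizer_le h4))
  by_cases hpq : p = q
  · subst hpq
    exact le_centralizer_iff_isMulCommutative.2 h3.1.1
  · exact L.le_centralizer_of_normal_of_inf_eq_bot (disjoint_iff.1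
      (IsPGroup.disjoint_of_ne q p (Ne.symm hpq) _ _ (L.isPGroup_pCore q) (L.isPGroup_pCore p)))

/-- all elementary abelian `p`-subgroups are cyclic -/
def RankOneAt (p : ℕ) (G : Type*) [Group G] : Prop :=
  ∀ A : Subgroup G, IsElementaryAbelian p A → IsCyclic A

theorem RankOneAt.of_injective {p : ℕ} {H : Type*} [Group H] (h : RankOneAt p G) (f : H →* G)
    (hf : Function.Injective f) : RankOneAt p H := fun A hA => by
  haveI := hA.1
  exact (A.equivMapOfInjective f hf).isCyclic.2 (h (A.map f) ⟨inferInstance, by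
    rintro _ ⟨a, ha, rfl⟩
    rw [← map_pow, hA.2 a ha, map_one]⟩)

theorem BG.rankOneAt [Finite G] [Group.IsSolvable G] (hB : BG G) {p : ℕ} [hp : Fact p.Prime]
    (h : p ∉ eaPrimes G) : RankOneAt p G := by
  intro A hA
  by_contra hnc
  obtain ⟨E, -, hE, hE2⟩ := exists_elementary_sq_le (isPGroup_of_isElementaryAbelian hA) hA.1 hnc
  obtain ⟨S, hS⟩ := (isPGroup_of_isElementaryAbelian hE).exists_le_sylow
  have h1 : p < Nat.card E := by rw [hE2, sq]; exact lt_mul_self hp.out.one_lt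
  have h2 := hB.pow_eq_one_of_elementary S.isPGroup' hS hE h1
  obtain ⟨h3, h4⟩ := BG.sylow_normal_aux G hB inferInstance p S (fun hc =>
    not_isCyclic_of_isElementaryAbelian hp.out hE h1 (isCyclic_of_le hS)) h2
  apply h
  rw [eaPrimes, Set.mem_setOf_eq, L.pCore_eq_of_sylow_normal S h3]
  exact ⟨⟨h4, h2⟩, S.not_dvd_index⟩

theorem RankOneAt.quotient [Finite G] {p : ℕ} [hp : Fact p.Prime] (h : RankOneAt p G)
    (N : Subgroup G) [N.Normal] (hN : ¬ p ∣ Nat.card N) : RankOneAt p (G ⧸ N) := by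
  intro A hA
  obtain ⟨k, hk⟩ := IsPGroup.iff_card.1 (isPGroup_of_isElementaryAbelian hA)
  obtain ⟨B, rfl, h1, h2⟩ := H5.exists_lift_subgroup_of_coprime N A
    (hk ▸ (hp.out.coprime_iff_not_dvd.2 hN).symm.pow_right k)
  haveI := h B ⟨isMulCommutative_of_map_mk' hA.1 h1, fun b hb => by
    have : b ^ p ∈ B ⊓ N := ⟨pow_mem hb p, (QuotientGroup.eq_one_iff _).1 (by
      rw [QuotientGroup.mk_pow]; exact hA.2 _ (mem_map_of_mem _ hb))⟩
    rwa [h1, mem_bot] at this⟩
  exact isCyclic_of_surjective _ ((QuotientGroup.mk' N).subgroupMap_surjective B)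

theorem BG.sup_piCore_normal [Finite G] [Group.IsSolvable G] (hB : BG G)
    (h2 : 2 ∉ eaPrimes G) (S : Sylow 2 G) (hnc : ¬ IsMulCommutative S) :
    ((S : Subgroup G) ⊔ piCore (eaPrimes G) G).Normal := by
  haveI := Fact.mk Nat.prime_two
  set N := piCore (eaPrimes G) G
  have hr : ∀ p : ℕ, p.Prime → RankOneAt p (G ⧸ N) := fun p hp => by
    haveI := Fact.mk hp
    by_cases h : p ∈ eaPrimes G
    · intro A hA
      by_contra hc
      obtain ⟨m, -, hmo⟩ := exists_mem_orderOf_eq_prime (isPGroup_of_isElementaryAbelian hA)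
        (by rintro rfl; exact hc inferInstance)
      exact isPiHall_eaPrimes.2 p hp h (hmo ▸ orderOf_dvd_natCard m)
    · exact (hB.rankOneAt h).quotient N fun hd => h (isPiHall_eaPrimes.1 p hp hd)
  have h1 := BG.sylow_two_normal (hB.quotient N inferInstance (Or.inr inferInstance))
    (fun p hp hp2 P hP => by
      haveI := Fact.mk hp
      exact (abelian_cyclic_cases hP ((hr p hp).of_injective _ P.subtype_injective)).resolve_right
        fun h => hp2 h.1)
    (S.mapSurjective (QuotientGroup.mk'_surjective N))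
    ((hr 2 Nat.prime_two).of_injective _ (subtype_injective _)) fun hc =>
      hnc (isMulCommutative_of_map_mk' (N := N) hc.isMulCommutative (H1.inf_eq_bot_of_coprime' (by
        obtain ⟨k, hk⟩ := IsPGroup.iff_card.1 S.isPGroup'
        rw [hk]
        exact (Nat.prime_two.coprime_iff_not_dvd.2 fun hd =>
          h2 (isPiHall_eaPrimes.1 2 Nat.prime_two hd)).pow_left k)))
  have := h1.comap (QuotientGroup.mk' N)
  rwa [Sylow.coe_mapSurjective, comap_map_eq, QuotientGroup.ker_mk'] at this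

theorem BG.exists_conj_quaternion [Finite G] [Group.IsSolvable G] (hB : BG G)
    (h2 : 2 ∉ eaPrimes G) (S : Sylow 2 G) (hnc : ¬ IsMulCommutative S) {U X Y : Subgroup G}
    (hU : U ≤ piCore (eaPrimes G) G) (hSU : (S : Subgroup G) ≤ normalizer (U : Set G))
    (hX : X ≤ S) (hY : Y ≤ S) (hXc : IsMulCommutative X) (hYc : IsMulCommutative Y)
    (h : Nat.card X = Nat.card Y) : ∃ g ∈ normalizer (U : Set G),
      ∀ x ∈ X, g * x * g⁻¹ ∈ piCore (eaPrimes G) G ⊔ Y := by
  haveI := Fact.mk Nat.prime_two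
  haveI := hB.sup_piCore_normal h2 S hnc
  set N := piCore (eaPrimes G) G
  have hNN : N ≤ centralizer (N : Set G) := piCore_eaPrimes_le_centralizer
  set V := U ⊓ centralizer ((S : Subgroup G) : Set G) with hV
  have hVN : V ≤ N := inf_le_left.trans hU
  have hVc : IsMulCommutative V := le_centralizer_iff_isMulCommutative.1
    (hVN.trans (hNN.trans (centralizer_le hVN)))
  have hd : (S : Subgroup G) ⊓ N = ⊥ := H1.inf_eq_bot_of_coprime' (by
    obtain ⟨k, hk⟩ := IsPGroup.iff_card.1 S.isPGroup'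
    rw [hk]
    exact (Nat.prime_two.coprime_iff_not_dvd.2 fun hd =>
      h2 (isPiHall_eaPrimes.1 2 Nat.prime_two hd)).pow_left k)
  have h1 : ∀ Z : Subgroup G, Z ≤ S → V ≤ centralizer (Z : Set G) := fun Z hZ =>
    inf_le_right.trans (centralizer_le hZ)
  have h3 : ∀ Z : Subgroup G, Z ≤ S → Z ⊓ N = ⊥ := fun Z hZ =>
    le_bot_iff.1 (hd ▸ inf_le_inf_right N hZ)
  have h4 : ∀ Z : Subgroup G, Z ≤ S → Nat.card (Z ⊔ V : Subgroup G) = Nat.card Z * Nat.card V :=
    fun Z hZ => H1.card_sup_of_inf_eq_bot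
      (H1.le_normalizer_of_le_centralizer (le_centralizer_iff.1 (h1 Z hZ)))
      (le_bot_iff.1 (h3 Z hZ ▸ inf_le_inf_left Z hVN))
  obtain ⟨g, hg⟩ := hB (X ⊔ V) (Y ⊔ V) (isMulCommutative_sup hXc hVc (h1 X hX))
    (isMulCommutative_sup hYc hVc (h1 Y hY)) (by rw [h4 X hX, h4 Y hY, h])
  have h5 := H1.map_conj_le_iff.1 hg.ge
  have h6 : ∀ v ∈ V, g * v * g⁻¹ ∈ V := fun v hv => by
    have : g * v * g⁻¹ ∈ N ⊓ (Y ⊔ V) :=
      ⟨Normal.conj_mem inferInstance v (hVN hv) g, h5 v (mem_sup_right hv)⟩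
    rwa [H1.dedekind_right (H1.le_normalizer_of_le_centralizer (le_centralizer_iff.1 (h1 Y hY)))
      hVN, inf_comm, h3 Y hY, bot_sup_eq] at this
  refine ⟨g, mem_normalizer_fintype ?_, fun x hx => ?_⟩
  · have : U ≤ U.comap (MulAut.conj g).toMonoidHom := by
      refine H1.le_of_forall_isPGroup_le fun p hp P hPU hP _ => ?_
      haveI := Fact.mk hp
      by_cases hP1 : P = ⊥
      · rw [hP1]; exact bot_le
      obtain ⟨h7, h8⟩ := le_pCore_of_le_piCore hP (hPU.trans hU) hP1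
      by_cases h9 : pCore p G ≤ U
      · exact fun u hu => h9 (Normal.conj_mem inferInstance u (h8 hu) g)
      obtain ⟨-, n, x, y, hn, hx, hidx, hy, h10, h11⟩ := (abelian_cyclic_cases S.isPGroup'
        ((hB.rankOneAt h2).of_injective _ (subtype_injective _))).resolve_left
        fun hc => hnc inferInstance
      have h12 := hB.le_centralizer_of_quaternion (W := U ⊓ pCore p G) (R := S ⊔ N)
        (fun e => h2 (e ▸ h7)) h7.1 (lt_of_le_of_ne inf_le_right fun e => h9 (e ▸ inf_le_left))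
        (fun e => hP1 (le_bot_iff.1 (e ▸ le_inf hPU h8)))
        (sup_le (H1.le_normalizer_inf hSU le_normalizer_of_normal)
          (H1.le_normalizer_of_le_centralizer (hNN.trans (centralizer_le (inf_le_left.trans hU)))))
        le_sup_left hn hx hidx hy h10 h11
      exact fun u hu => (h6 u ⟨hPU hu, le_centralizer_iff.1 h12 (h8 hu)⟩).1
    exact fun u hu => this hu
  · exact sup_le le_sup_right (hVN.trans le_sup_left) (h5 x (mem_sup_left hx))

theorem sup_eq_of_isPiHallOf [Finite G] {π : Set ℕ} {A B T : Subgroup G} (hA : IsPiHallOf π A T)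
    (hB : IsPiHallOf πᶜ B T) : A ⊔ B = T := by
  refine le_antisymm (sup_le hA.1 hB.1) (relIndex_eq_one.1 ?_)
  by_contra h
  obtain ⟨p, hp, hd⟩ := Nat.exists_prime_and_dvd h
  by_cases hπ : p ∈ π
  · exact hA.2.2 p hp hπ (hd.trans (relIndex_dvd_of_le_left T le_sup_left))
  · exact hB.2.2 p hp hπ (hd.trans (relIndex_dvd_of_le_left T le_sup_right))

theorem eq_of_card_eq_of_le_isCyclic [Finite G] {S X Y : Subgroup G} [IsCyclic S] (hX : X ≤ S)
    (hY : Y ≤ S) (h : Nat.card X = Nat.card Y) : X = Y := by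
  obtain ⟨a, rfl⟩ := (Subgroup.isCyclic_iff_exists_zpowers_eq_top X).1 (isCyclic_of_le hX)
  obtain ⟨b, rfl⟩ := (Subgroup.isCyclic_iff_exists_zpowers_eq_top Y).1 (isCyclic_of_le hY)
  refine eq_of_le_of_card_ge (zpowers_le.2 (H6.mem_zpowers_of_orderOf_dvd
    (hX (mem_zpowers a)) (hY (mem_zpowers b)) ?_)) h.ge
  rw [← Nat.card_zpowers, h, Nat.card_zpowers]

theorem BG.exists_conj_pSubgroup [Finite G] [Group.IsSolvable G] (hB : BG G) {U L : Subgroup G}
    (hU : U ≤ piCore (eaPrimes G) G) (hL : IsPiHallOf (eaPrimes G)ᶜ L (normalizer (U : Set G)))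
    {p : ℕ} [hp : Fact p.Prime] {X Y : Subgroup G} (hXL : X ≤ L) (hYL : Y ≤ L) (hX : IsPGroup p X)
    (hY : IsPGroup p Y) (h : Nat.card X = Nat.card Y) :
    ∃ l ∈ L, Y = X.map (MulAut.conj l).toMonoidHom := by
  obtain ⟨S, hYS, hSL, hS, hSi⟩ := H1.exists_sylow_of_le hYL hY
  obtain ⟨l, hl, hXS⟩ := H1.exists_conj_le_sylow hS hSi hXL hX
  suffices h1 : ∃ k ∈ L, Y = (X.map (MulAut.conj l).toMonoidHom).map (MulAut.conj k).toMonoidHom by
    obtain ⟨k, hk, h1⟩ := h1
    exact ⟨k * l, mul_mem hk hl, by rw [h1, H1.map_conj_map_conj]⟩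
  rw [← H1.card_map_conj X l] at h
  generalize X.map (MulAut.conj l).toMonoidHom = Z at h hXS
  by_cases hc : IsCyclic S
  · exact ⟨1, one_mem L, by rw [H1.map_conj_one, eq_of_card_eq_of_le_isCyclic hXS hYS h]⟩
  have hπ : p ∉ eaPrimes G := by
    obtain ⟨m, hm, hmo⟩ := exists_mem_orderOf_eq_prime hS (by rintro rfl; exact hc inferInstance)
    exact hL.2.1 p hp.out (hmo ▸ orderOf_dvd_natCard _ (hSL hm))
  have hr := hB.rankOneAt hπ
  obtain ⟨rfl, n, x, y, hn, hx, hidx, -⟩ :=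
    (abelian_cyclic_cases hS (hr.of_injective _ S.subtype_injective)).resolve_left hc
  obtain ⟨S', hS'⟩ := hS.exists_le_sylow
  have h8 := hB.card_eq_eight S' (hr.of_injective _ (subtype_injective _))
    fun h => hc (isCyclic_of_le hS')
  obtain rfl : S = S' := eq_of_le_of_card_ge hS' (by
    rw [h8, ← (zpowers x).index_mul_card, hidx, Nat.card_zpowers, hx]
    exact Nat.mul_le_mul_left 2 (Nat.pow_le_pow_right (n := 2) two_pos hn))
  by_cases hZ : 8 ≤ Nat.card Z
  · exact ⟨1, one_mem L, by rw [H1.map_conj_one, eq_of_le_of_card_ge hXS (h8 ▸ hZ),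
      eq_of_le_of_card_ge hYS (h8 ▸ h ▸ hZ)]⟩
  have hcomm : ∀ W : Subgroup G, W ≤ S' → Nat.card W < 8 → IsMulCommutative W := fun W hW h1 => by
    by_contra h2
    obtain ⟨k, hk⟩ := IsPGroup.iff_card.1 (hS.to_le hW)
    have := Nat.pow_le_pow_right (n := 2) two_pos (three_le_of_not_isMulCommutative hk h2)
    omega
  obtain ⟨g, hg, h1⟩ := hB.exists_conj_quaternion hπ S' (fun h => by
      by_contra h2
      obtain ⟨E, -, h3, h4⟩ := exists_elementary_sq_le hS h hc
      exact not_isCyclic_of_isElementaryAbelian Nat.prime_two h3 (by omega) (hr E h3))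
    hU (hSL.trans hL.1) hXS hYS (hcomm Z hXS (by omega)) (hcomm Y hYS (by omega)) h
  set N := piCore (eaPrimes G) G
  have hN : IsPiHallOf (eaPrimes G) N (normalizer (U : Set G)) :=
    H1.isPiHallOf_of_le (H1.isPiHallOf_top_iff.2 isPiHall_eaPrimes)
      (H1.le_normalizer_of_le_centralizer (piCore_eaPrimes_le_centralizer.trans
        (centralizer_le hU))) le_top
  rw [← sup_eq_of_isPiHallOf hN hL, sup_comm,
    H1.mem_sup_iff_of_le_normalizer' le_normalizer_of_normal] at hg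
  obtain ⟨a, ha, k, hk, rfl⟩ := hg
  refine ⟨k, hk, (eq_of_le_of_card_ge (H1.map_conj_le_iff.2 fun z hz => ?_)
    (by rw [H1.card_map_conj, h])).symm⟩
  have h2 : k * z * k⁻¹ ∈ L ⊓ (Y ⊔ N) := by
    refine ⟨L.mul_mem (L.mul_mem hk (hSL (hXS hz))) (L.inv_mem hk), ?_⟩
    have h3 := h1 z hz
    rw [sup_comm] at h3
    have h4 : a ∈ Y ⊔ N := mem_sup_right ha
    have := mul_mem (mul_mem (inv_mem h4) h3) h4
    simpa [mul_assoc] using this
  rwa [H1.dedekind_left le_normalizer_of_normal hYL, H1.inf_eq_bot_of_coprime'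
    (Cfsg.Agent.L.IsPiNum.coprime hN.2.1 hL.2.1).symm, sup_bot_eq] at h2

theorem isPiHallOf_inf_of_normal [Finite G] {π : Set ℕ} {N : Subgroup G} [N.Normal]
    (hN : IsPiHall π N) (A : Subgroup G) : IsPiHallOf π (A ⊓ N) A :=
  ⟨inf_le_left, fun p hp h => hN.1 p hp (h.trans (card_dvd_of_le inf_le_right)),
    fun p hp hπ h => hN.2 p hp hπ (h.trans (by
      rw [inf_relIndex_left]; exact relIndex_dvd_index_of_normal N A))⟩

theorem card_eq_of_isPiHallOf_of_card_eq [Finite G] {π : Set ℕ} {A B U V : Subgroup G}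
    (hU : IsPiHallOf π U A) (hV : IsPiHallOf π V B) (h : Nat.card A = Nat.card B) :
    Nat.card U = Nat.card V :=
  Nat.dvd_antisymm
    (H1.dvd_of_isPiNum hU.2.1 (H1.isPiHallOf_iff.1 hV).2.2
      (by rw [H1.card_mul_relIndex hV.1, ← h]; exact card_dvd_of_le hU.1))
    (H1.dvd_of_isPiNum hV.2.1 (H1.isPiHallOf_iff.1 hU).2.2
      (by rw [H1.card_mul_relIndex hU.1, h]; exact card_dvd_of_le hV.1))

theorem BG.exists_conj_of_inf_eq [Finite G] [Group.IsSolvable G] (hB : BG G) {A B : Subgroup G}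
    (h : Nat.card A = Nat.card B)
    (hAB : A ⊓ piCore (eaPrimes G) G = B ⊓ piCore (eaPrimes G) G) :
    ∃ g, B = A.map (MulAut.conj g).toMonoidHom := by
  set π := eaPrimes G
  set N := piCore π G
  set U := A ⊓ N with hU
  have hA1 : IsPiHallOf π U A := isPiHallOf_inf_of_normal isPiHall_eaPrimes A
  have hB1 : IsPiHallOf π U B := hAB ▸ isPiHallOf_inf_of_normal isPiHall_eaPrimes B
  have hAT : A ≤ normalizer (U : Set G) := H1.le_normalizer_inf le_normalizer le_normalizer_of_normal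
  have hBT : B ≤ normalizer (U : Set G) :=
    hAB ▸ H1.le_normalizer_inf le_normalizer le_normalizer_of_normal
  obtain ⟨K, hK⟩ := H1.exists_isPiHallOf (M := A) (L.piSep_of_isSolvable πᶜ)
  obtain ⟨K', hK'⟩ := H1.exists_isPiHallOf (M := B) (L.piSep_of_isSolvable πᶜ)
  obtain ⟨L, hL, hKL⟩ := H1.exists_le_isPiHallOf (M := normalizer (U : Set G))
    (L.piSep_of_isSolvable πᶜ) (Or.inl fun _ _ _ => inferInstance) (hK.1.trans hAT) hK.2.1
  obtain ⟨t, ht, hKL'⟩ := H1.exists_conj_le_isPiHallOf (Cfsg.Agent.L.piSep_of_isSolvable πᶜ) hL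
    (Or.inl inferInstance) (hK'.1.trans hBT) hK'.2.1
  have hmap : ∀ (X Y : Subgroup L) (l : L), Y = X.map (MulAut.conj l).toMonoidHom ↔
      Y.map L.subtype = (X.map L.subtype).map (MulAut.conj (l : G)).toMonoidHom := by
    intro X Y l
    rw [← (map_injective L.subtype_injective).eq_iff, map_map, map_map]
    rfl
  obtain ⟨l, hl⟩ := S4022.result (G := L) (fun p hp X Y hX hY hXY => by
      haveI := Fact.mk hp
      obtain ⟨l, hl, h1⟩ := hB.exists_conj_pSubgroup inf_le_right hL (map_subtype_le X)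
        (map_subtype_le Y) (hX.map _) (hY.map _) (by
          rw [card_map_of_injective L.subtype_injective, card_map_of_injective L.subtype_injective,
            hXY])
      exact ⟨⟨l, hl⟩, (hmap X Y _).2 h1⟩) 2 (fun p hp hp2 P => by
      haveI := Fact.mk hp
      by_contra hc
      obtain ⟨m, -, hmo⟩ := exists_mem_orderOf_eq_prime P.isPGroup'
        (fun e => hc (e ▸ inferInstance))
      exact hp2 ((abelian_cyclic_cases P.isPGroup' (((hB.rankOneAt
        (hL.2.1 p hp (hmo ▸ orderOf_dvd_natCard m))).of_injective _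
          L.subtype_injective).of_injective _ (subtype_injective _))).resolve_left hc).1)
    (K.subgroupOf L) ((K'.map (MulAut.conj t).toMonoidHom).subgroupOf L) (by
      rw [Nat.card_congr (subgroupOfEquivOfLe hKL).toEquiv,
        Nat.card_congr (subgroupOfEquivOfLe hKL').toEquiv, H1.card_map_conj]
      exact card_eq_of_isPiHallOf_of_card_eq hK hK' h)
  rw [hmap, map_subgroupOf_eq_of_le hKL, map_subgroupOf_eq_of_le hKL'] at hl
  refine ⟨t⁻¹ * l, ?_⟩
  rw [← H1.map_conj_map_conj, ← sup_eq_of_isPiHallOf hA1 hK, Subgroup.map_sup, ← hl,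
    H1.map_conj_eq_self_iff.2 (hL.1 l.2), Subgroup.map_sup, H1.map_conj_map_conj, inv_mul_cancel,
    H1.map_conj_one, H1.map_conj_eq_self_iff.2 (inv_mem ht), sup_eq_of_isPiHallOf hB1 hK']

theorem BG.exists_conj [Finite G] [Group.IsSolvable G] (hB : BG G) {A B : Subgroup G}
    (h : Nat.card A = Nat.card B) : ∃ g, B = A.map (MulAut.conj g).toMonoidHom := by
  set N := piCore (eaPrimes G) G
  have hc : ∀ X : Subgroup G, IsMulCommutative (X ⊓ N : Subgroup G) := fun X =>
    le_centralizer_iff_isMulCommutative.1 (inf_le_right.trans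
      (piCore_eaPrimes_le_centralizer.trans (centralizer_le inf_le_right)))
  obtain ⟨g, hg⟩ := hB (A ⊓ N) (B ⊓ N) (hc A) (hc B) (card_eq_of_isPiHallOf_of_card_eq
    (isPiHallOf_inf_of_normal isPiHall_eaPrimes A) (isPiHallOf_inf_of_normal isPiHall_eaPrimes B) h)
  obtain ⟨k, hk⟩ := hB.exists_conj_of_inf_eq (A := A.map (MulAut.conj g).toMonoidHom) (B := B)
    (by rw [H1.card_map_conj, h]) (by
      rw [hg, map_inf _ _ _ (MulAut.conj g).injective,
        H1.map_conj_eq_self_iff.2 (le_normalizer_of_normal (H := N) (mem_top g))])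
  exact ⟨k * g, by rw [hk, H1.map_conj_map_conj]⟩

end Cfsg.Agent.H3
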