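import Cfsg.Agent.H3.ClassCount
import Cfsg.Agent.H8.Frobenius
import Cfsg.Agent.H1.Basic

/-! Counting conjugacy classes of `p`-elements, part 2. -/

set_option autoImplicit false

namespace Cfsg.Agent.H3

open Subgroup Finset

variable {G : Type*} [Group G]

theorem mem_centralizer_singleton_iff_conj' {x g : G} :
    g ∈ centralizer ({x} : Set G) ↔ g * x * g⁻¹ = x := by
  rw [mem_centralizer_singleton_iff, mul_inv_eq_iff_eq_mul]

/-- The map from classes of a Sylow subgroup to classes of `p`-elements. -/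
noncomputable def sylowClassMap {p : ℕ} [Fact p.Prime] (P : Sylow p G) :
    ConjClasses (P : Subgroup G) →
      {c : ConjClasses G // ∀ x ∈ c.carrier, ∃ k : ℕ, orderOf x = p ^ k} :=
  fun c => ⟨ConjClasses.map (P : Subgroup G).subtype c, by
    obtain ⟨x, rfl⟩ := ConjClasses.mk_surjective c
    exact (forall_mem_carrier_mk (Q := fun n => ∃ k : ℕ, n = p ^ k) (x := (x : G))).mpr
      (H8.exists_orderOf_eq_pow_of_mem P.isPGroup' x.2)⟩

theorem sylowClassMap_surjective [Finite G] {p : ℕ} [Fact p.Prime] (P : Sylow p G) :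
    Function.Surjective (sylowClassMap P) := by
  rintro ⟨c, hc⟩
  obtain ⟨x, rfl⟩ := ConjClasses.mk_surjective c
  obtain ⟨k, hk⟩ := hc x ConjClasses.mem_carrier_mk
  obtain ⟨y, hy, h⟩ := exists_isConj_mem_sylow P hk
  exact ⟨ConjClasses.mk ⟨y, hy⟩, Subtype.ext (ConjClasses.mk_eq_mk_iff_isConj.mpr h.symm)⟩

theorem kcl_le_card_conjClasses_sylow [Finite G] {p : ℕ} [Fact p.Prime] (P : Sylow p G) :
    kcl (fun x : G => ∃ k : ℕ, orderOf x = p ^ k) ≤ Nat.card (ConjClasses (P : Subgroup G)) :=
  Nat.card_le_card_of_surjective _ (sylowClassMap_surjective P)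

theorem kcl_eq_card_conjClasses_sylow [Finite G] {p : ℕ} [Fact p.Prime] (P : Sylow p G)
    (h : Cfsg.HasNormalPComplement p G) :
    kcl (fun x : G => ∃ k : ℕ, orderOf x = p ^ k) = Nat.card (ConjClasses (P : Subgroup G)) := by
  refine (Nat.card_congr (Equiv.ofBijective _ ⟨?_, sylowClassMap_surjective P⟩)).symm
  intro c d hcd
  obtain ⟨x, rfl⟩ := ConjClasses.mk_surjective c
  obtain ⟨y, rfl⟩ := ConjClasses.mk_surjective d
  have h1 : IsConj (x : G) y := ConjClasses.mk_eq_mk_iff_isConj.mp (congrArg Subtype.val hcd)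
  obtain ⟨g, hg⟩ := isConj_iff.mp h1
  obtain ⟨u, hu, h2⟩ := H8.exists_conj_of_hasNPC h P g
  rw [ConjClasses.mk_eq_mk_iff_isConj, isConj_iff]
  exact ⟨⟨u, hu⟩, Subtype.ext (by rw [← hg, h2 x x.2 (hg ▸ y.2)]; rfl)⟩

theorem card_conjClasses_of_isMulCommutative (h : IsMulCommutative G) :
    Nat.card (ConjClasses G) = Nat.card G := by
  refine (Nat.card_congr (Equiv.ofBijective _ ⟨?_, ConjClasses.mk_surjective⟩)).symm
  intro x y hxy
  obtain ⟨g, rfl⟩ := isConj_iff.mp (ConjClasses.mk_eq_mk_iff_isConj.mp hxy)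
  rw [h.is_comm.comm g x]
  simp

/-- An element of order prime to `p` acting nontrivially on a `p`-subgroup `R` does not centralize
a subgroup of index `2` in it when its order is odd. -/
theorem four_mul_card_inf_centralizer_le [Finite G] {R : Subgroup G} (hR : IsPGroup 2 R) {t : G}
    (htN : t ∈ normalizer (R : Set G)) (hto : Odd (orderOf t)) (htC : t ∉ centralizer (R : Set G)) :
    4 * Nat.card (R ⊓ centralizer ({t} : Set G) : Subgroup G) ≤ Nat.card R := by
  set C : Subgroup G := R ⊓ centralizer ({t} : Set G) with hC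
  have h3 := card_mul_relIndex (inf_le_left : C ≤ R)
  obtain ⟨k, hk⟩ := hR.index (C.subgroupOf R)
  obtain ⟨r, hr, hrC⟩ : ∃ r ∈ R, r ∉ C := by
    by_contra h
    push Not at h
    exact htC fun r hr => mem_centralizer_singleton_iff.mp (h r hr).2
  have hk0 : k ≠ 0 := by
    rintro rfl
    exact hrC (relIndex_eq_one.mp hk hr)
  have hk1 : k ≠ 1 := by
    rintro rfl
    have hr' : t * r * t⁻¹ ∈ R := (mem_normalizer_iff.mp htN r).mp hr
    have hr'C : t * r * t⁻¹ ∉ C := by
      intro h
      refine hrC ⟨hr, mem_centralizer_singleton_iff.mpr ?_⟩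
      have := mem_centralizer_singleton_iff.mp h.2
      calc r * t = t⁻¹ * (t * r * t⁻¹ * t) * t := by group
        _ = t * r := by rw [this]; group
    have hc : r⁻¹ * (t * r * t⁻¹) ∈ C := by
      have := (mul_mem_iff_of_index_two (H := C.subgroupOf R) (by simpa using hk)
        (a := (⟨r, hr⟩ : R)⁻¹) (b := ⟨_, hr'⟩)).mpr (by
          rw [inv_mem_iff, mem_subgroupOf, mem_subgroupOf]
          exact ⟨fun h => (hrC h).elim, fun h => (hr'C h).elim⟩)
      exact this
    set c := r⁻¹ * (t * r * t⁻¹) with hcdef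
    have hct : Commute c t := mem_centralizer_singleton_iff.mp hc.2
    have hn : ∀ n : ℕ, t ^ n * r * (t ^ n)⁻¹ = r * c ^ n := by
      intro n
      induction n with
      | zero => simp
      | succ n ih =>
        calc t ^ (n + 1) * r * (t ^ (n + 1))⁻¹ = t * (t ^ n * r * (t ^ n)⁻¹) * t⁻¹ := by group
          _ = t * r * (c ^ n * t⁻¹) := by rw [ih]; group
          _ = t * r * t⁻¹ * c ^ n := by rw [((hct.pow_left n).inv_right).eq]; group
          _ = r * c ^ (n + 1) := by
            rw [pow_succ', ← mul_assoc r c]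
            congr 1
            rw [hcdef]; group
    have h1 := hn (orderOf t)
    rw [pow_orderOf_eq_one, one_mul, inv_one, mul_one, left_eq_mul] at h1
    obtain ⟨m, hm⟩ := H8.exists_orderOf_eq_pow_of_mem hR hc.1
    have h2 : c = 1 := H8.eq_one_of_orderOf_pow_of_coprime hm
      (Nat.Coprime.coprime_dvd_left (orderOf_dvd_of_pow_eq_one h1) (Nat.coprime_two_right.mpr hto))
    apply hr'C
    have : t * r * t⁻¹ = r := by
      calc t * r * t⁻¹ = r * c := by rw [hcdef]; group
        _ = r := by rw [h2, mul_one]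
    refine (hrC ⟨hr, mem_centralizer_singleton_iff.mpr ?_⟩).elim
    rw [mul_inv_eq_iff_eq_mul] at this
    exact this.symm
  have : 4 ≤ C.relIndex R := by
    rw [relIndex, hk]
    calc 4 = 2 ^ 2 := rfl
      _ ≤ 2 ^ k := Nat.pow_le_pow_right two_pos (by omega)
  calc 4 * Nat.card C ≤ C.relIndex R * Nat.card C := Nat.mul_le_mul_right _ this
    _ = _ := by rw [mul_comm, h3]

/-- If `G` has no normal `p`-complement, some subgroup `R` of the Sylow subgroup `P` containing
all elements of `P` conjugate to no other element of `P` is normalized but not centralized by a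
`p'`-element. -/
theorem exists_isolated_le_not_centralized [Finite G] {p : ℕ} [hp : Fact p.Prime] (P : Sylow p G)
    (hcon : ¬ Cfsg.HasNormalPComplement p G) :
    ∃ R : Subgroup G, R ≤ P ∧ (∀ x ∈ (P : Subgroup G),
        (∀ c : G, c * x * c⁻¹ ∈ (P : Subgroup G) → c * x * c⁻¹ = x) → x ∈ R) ∧
      ∃ t ∈ normalizer (R : Set G), (orderOf t).Coprime p ∧ t ∉ centralizer (R : Set G) := by
  obtain ⟨X, hXP, -, g, hgN, q, k, hq, hq2, hgo, hgC⟩ := H8.exists_primePow_not_centralizes hcon P
  have hodd : (orderOf g).Coprime p := by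
    rw [hgo]; exact ((Nat.coprime_primes hq hp.out).2 hq2).pow_left k
  let D : Subgroup G := X ⊔ centralizer (X : Set G)
  have hND : normalizer (X : Set G) ≤ normalizer (D : Set G) :=
    H1.le_normalizer_sup le_rfl (H1.le_normalizer_centralizer le_rfl)
  have hDN : D ≤ normalizer (X : Set G) := sup_le le_normalizer (centralizer_le_normalizer _)
  obtain ⟨S, hS1, hS2, hS3, hS4⟩ := H1.exists_sylow_of_le (inf_le_right : (P : Subgroup G) ⊓ D ≤ D)
    (P.isPGroup'.to_inf_left)
  obtain ⟨d, hd, hdg⟩ := H1.frattini_argument hS2 hS3 hS4 (hND hgN)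
  obtain ⟨a, b, ha, hb, hab, hcomm, ⟨m, hm⟩, hbp⟩ := H8.exists_pPart_pPrimePart hp.out (d * g)
  have hXS : X ≤ S := (le_inf hXP le_sup_left).trans hS1
  have hbC : b ∉ centralizer (S : Set G) := by
    intro hbC
    have hbD : b ∈ D := mem_sup_right (centralizer_le hXS hbC)
    have hgD : g ∈ D := by
      apply H8.mem_of_pow_mem_of_coprime (hodd.pow_right m)
      have haN : a ∈ normalizer (D : Set G) :=
        zpowers_le.mpr (mul_mem (le_normalizer hd) (hND hgN)) ha
      have : ∀ n : ℕ, (a ^ n)⁻¹ * g ^ n ∈ D := by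
        intro n
        induction n with
        | zero => simp
        | succ n ih =>
          have h1 : a⁻¹ * ((a ^ n)⁻¹ * g ^ n * d⁻¹) * a⁻¹⁻¹ ∈ D :=
            (mem_normalizer_iff.mp (inv_mem haN) _).mp (mul_mem ih (inv_mem hd))
          have h2 : g = d⁻¹ * (a * b) := by rw [← hab]; group
          have h3 := mul_mem h1 hbD
          convert h3 using 1
          rw [pow_succ g, pow_succ a]
          nth_rewrite 2 [h2]
          group
      have h4 := this (p ^ m)
      rwa [← hm, pow_orderOf_eq_one, inv_one, one_mul, hm] at h4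
    obtain ⟨x, hx, c, hc, rfl⟩ :=
      (H1.mem_sup_iff_of_le_normalizer (A := X) (N := centralizer (X : Set G))
        (H1.le_normalizer_centralizer le_normalizer)).mp hgD
    obtain ⟨l, hl⟩ := H8.exists_orderOf_eq_pow_of_mem P.isPGroup' (hXP hx)
    apply hgC
    apply H8.mem_of_pow_mem_of_coprime (hodd.pow_right l)
    rw [Commute.mul_pow (hc x hx), ← hl, pow_orderOf_eq_one, one_mul]
    exact pow_mem hc _
  obtain ⟨h, -, hh⟩ := H1.exists_conj_le_sylow (H := ⊤) P.isPGroup'
    (by rw [relIndex_top_right]; exact P.not_dvd_index) le_top hS3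
  refine ⟨_, hh, fun x hx hiso => ?_, h * b * h⁻¹, ?_, ?_, ?_⟩
  · have hxS : x ∈ S := hS1 ⟨hx, mem_sup_right fun y hy => by
      rw [← mul_inv_eq_iff_eq_mul]
      exact hiso y (mul_mem (mul_mem (hXP hy) hx) (inv_mem (hXP hy)))⟩
    have h1 : h * x * h⁻¹ ∈ S.map (MulAut.conj h).toMonoidHom := ⟨x, hxS, rfl⟩
    rwa [hiso h (hh h1)] at h1
  · rw [H1.normalizer_map_conj]
    exact ⟨b, zpowers_le.mpr hdg hb, rfl⟩
  · rwa [← orderOf_eq_of_isConj (isConj_iff.mpr ⟨h, rfl⟩)]
  · rw [H1.centralizer_map_conj, H1.mem_map_conj]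
    simpa [mul_assoc] using hbC

/-- If `k_2(G) > |P| / 2` then `G` has a normal `2`-complement. -/
theorem hasNPC_two_of_kcl [Finite G] (P : Sylow 2 G)
    (h : Nat.card P < 2 * kcl (fun x : G => ∃ k : ℕ, orderOf x = 2 ^ k)) :
    Cfsg.HasNormalPComplement 2 G := by
  classical
  haveI := Fintype.ofFinite G
  by_contra hcon
  obtain ⟨R, hRP, hIR, t, htN, hto, htC⟩ := exists_isolated_le_not_centralized P hcon
  have hodd : Odd (orderOf t) := Nat.coprime_two_right.mp hto
  have h4 := four_mul_card_inf_centralizer_le (P.isPGroup'.to_le hRP) htN hodd htC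
  set C : Subgroup G := R ⊓ centralizer ({t} : Set G) with hC
  have h1 := kcl_eq_sum_sylow P
  have h2 : ∑ x ∈ univ.filter (· ∈ (P : Subgroup G)),
      (((univ.filter fun y => y ∈ (P : Subgroup G) ∧ IsConj y x).card : ℚ))⁻¹ ≤
      ∑ x ∈ univ.filter (· ∈ (P : Subgroup G)),
        (1 / 2 + (if x ∈ C then 2 / 3 else 0) - (if x ∈ R then 1 / 6 else 0) : ℚ) := by
    refine sum_le_sum fun x hx => ?_
    have hxP := (mem_filter.mp hx).2
    have hmem : ∀ g : G, g * x * g⁻¹ ∈ (P : Subgroup G) →
        g * x * g⁻¹ ∈ univ.filter fun y => y ∈ (P : Subgroup G) ∧ IsConj y x := fun g hg =>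
      mem_filter.mpr ⟨mem_univ _, hg, (isConj_iff.mpr ⟨g, rfl⟩).symm⟩
    have hmem1 : x ∈ univ.filter fun y => y ∈ (P : Subgroup G) ∧ IsConj y x :=
      mem_filter.mpr ⟨mem_univ x, hxP, IsConj.refl x⟩
    by_cases hxC : x ∈ C
    · have : (1 : ℚ) ≤ (univ.filter fun y => y ∈ (P : Subgroup G) ∧ IsConj y x).card := by
        exact_mod_cast card_pos.mpr ⟨x, hmem1⟩
      rw [if_pos hxC, if_pos (show x ∈ R from hxC.1)]
      exact (inv_anti₀ one_pos this).trans (by norm_num)
    by_cases hxR : x ∈ R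
    · have hne : t * x * t⁻¹ ≠ x := fun h => hxC ⟨hxR, mem_centralizer_singleton_iff.mpr (by
        rw [mul_inv_eq_iff_eq_mul] at h; exact h.symm)⟩
      have : (3 : ℚ) ≤ (univ.filter fun y => y ∈ (P : Subgroup G) ∧ IsConj y x).card := by
        have : 2 < (univ.filter fun y => y ∈ (P : Subgroup G) ∧ IsConj y x).card := by
          refine two_lt_card_iff.mpr ⟨x, t * x * t⁻¹, t⁻¹ * x * t⁻¹⁻¹, hmem1,
            hmem _ (hRP ((mem_normalizer_iff.mp htN x).mp hxR)),
            hmem _ (hRP ((mem_normalizer_iff.mp (inv_mem htN) x).mp hxR)), hne.symm, ?_, ?_⟩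
          · intro h
            apply hne
            nth_rewrite 1 [h]
            group
          · intro h
            apply hne
            rw [← mem_centralizer_singleton_iff_conj']
            apply H8.mem_of_pow_mem_of_coprime hto
            rw [mem_centralizer_singleton_iff_conj']
            calc t ^ 2 * x * (t ^ 2)⁻¹ = t * (t * x * t⁻¹) * t⁻¹ := by rw [sq]; group
              _ = x := by rw [h]; group
        exact_mod_cast this
      rw [if_neg hxC, if_pos hxR]
      exact (inv_anti₀ three_pos this).trans (by norm_num)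
    · have : ¬ ∀ g : G, g * x * g⁻¹ ∈ (P : Subgroup G) → g * x * g⁻¹ = x :=
        fun h => hxR (hIR x hxP h)
      push Not at this
      obtain ⟨g, hg1, hg2⟩ := this
      have : (2 : ℚ) ≤ (univ.filter fun y => y ∈ (P : Subgroup G) ∧ IsConj y x).card := by
        exact_mod_cast one_lt_card.mpr ⟨_, hmem g hg1, x, hmem1, hg2⟩
      rw [if_neg hxC, if_neg hxR]
      exact (inv_anti₀ two_pos this).trans (by norm_num)
  have h5 : ∀ H : Subgroup G, H ≤ P →
      ((univ.filter (· ∈ (P : Subgroup G))).filter (· ∈ H)).card = Nat.card H := by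
    intro H hH
    rw [← card_filter_mem_subgroup, filter_filter]
    congr 1
    ext x
    simp only [mem_filter, mem_univ, true_and]
    exact ⟨fun h => h.2, fun h => ⟨hH h, h⟩⟩
  rw [sum_sub_distrib, sum_add_distrib, sum_const, card_filter_mem_subgroup, ← sum_filter,
    ← sum_filter, sum_const, sum_const, h5 R hRP, h5 C (inf_le_left.trans hRP), ← h1,
    nsmul_eq_mul, nsmul_eq_mul, nsmul_eq_mul] at h2
  have h6 : (4 * Nat.card C : ℚ) ≤ Nat.card R := by exact_mod_cast h4
  have h7 : (Nat.card (P : Subgroup G) : ℚ) <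
      2 * kcl (fun x : G => ∃ k : ℕ, orderOf x = 2 ^ k) := by exact_mod_cast h
  linarith

end Cfsg.Agent.H3
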