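import Mathlib
import Cfsg.Agent.L.BaerSuzuki
import Cfsg.Agent.H8.PComplement

/-! Nilpotent minimal covers of finite groups, and fixed points of nilpotent groups. -/

set_option autoImplicit false

namespace Cfsg.Agent.H3

open scoped commutatorElement

universe u

variable {G : Type*} [Group G]

/-- In a nilpotent group elements of coprime orders commute. -/
theorem commute_of_coprime_of_isNilpotent_aux (G : Type u) [Group G] [Group.IsNilpotent G] :
    ∀ x y : G, ∀ m n : ℕ, m.Coprime n → x ^ m = 1 → y ^ n = 1 → Commute x y := by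
  refine nilpotent_center_quotient_ind
    (P := fun G _ _ => ∀ x y : G, ∀ m n : ℕ, m.Coprime n → x ^ m = 1 → y ^ n = 1 → Commute x y)
    G ?_ ?_
  · intro G _ _ x y _ _ _ _ _
    exact Subsingleton.elim _ _
  · intro G _ _ ih x y m n hmn hx hy
    have h1 := ih (QuotientGroup.mk' _ x) (QuotientGroup.mk' _ y) m n hmn
      (by rw [← map_pow, hx, map_one]) (by rw [← map_pow, hy, map_one])
    have hc : ⁅x, y⁆ ∈ Subgroup.center G := by
      rw [← QuotientGroup.eq_one_iff]
      change QuotientGroup.mk' _ ⁅x, y⁆ = 1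
      rw [map_commutatorElement]
      exact commutatorElement_eq_one_iff_commute.2 h1
    set c := ⁅x, y⁆ with hcdef
    have hcc : ∀ g, Commute c g := fun g => (Subgroup.mem_center_iff.1 hc g).symm
    have e1 : x * y * x⁻¹ = c * y := by rw [hcdef, commutatorElement_def]; group
    have e2 : y * x * y⁻¹ = c⁻¹ * x := by
      rw [hcdef, commutatorElement_def]; group
    have h2 : c ^ n = 1 := by
      have : (x * y * x⁻¹) ^ n = 1 := by rw [conj_pow, hy]; group
      rw [e1, (hcc y).mul_pow, hy, mul_one] at this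
      exact this
    have h3 : c ^ m = 1 := by
      have : (y * x * y⁻¹) ^ m = 1 := by rw [conj_pow, hx]; group
      rw [e2, (hcc x).inv_left.mul_pow, hx, mul_one, inv_pow, inv_eq_one] at this
      exact this
    have h4 : c = 1 := by
      have := (pow_gcd_eq_one (a := c) (m := m) (n := n)).2 ⟨h3, h2⟩
      rw [hmn, pow_one] at this
      exact this
    exact commutatorElement_eq_one_iff_commute.1 h4

/-- In a nilpotent subgroup elements of coprime orders commute. -/
theorem commute_of_coprime_of_isNilpotent {A : Subgroup G} (hA : Group.IsNilpotent A) {x y : G}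
    (hx : x ∈ A) (hy : y ∈ A) {m n : ℕ} (hmn : m.Coprime n) (hxm : x ^ m = 1) (hyn : y ^ n = 1) :
    Commute x y := by
  have := commute_of_coprime_of_isNilpotent_aux A ⟨x, hx⟩ ⟨y, hy⟩ m n hmn (Subtype.ext hxm)
    (Subtype.ext hyn)
  exact congrArg Subtype.val this

/-- A `p`-element with fewer than `p` fixed points: each fixed point of it that is fixed by its
centralizer is fixed by each nilpotent subgroup containing the element. -/
theorem smul_eq_of_isNilpotent [Finite G] {X : Type*} [Finite X] [MulAction G X] {p : ℕ}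
    (hp : p.Prime) {A : Subgroup G} (hA : Group.IsNilpotent A) {x : G} (hx : x ∈ A) {k : ℕ}
    (hxk : x ^ p ^ k = 1) (hcard : (MulAction.fixedBy X x).ncard < p) {ω : X}
    (hC : ∀ g : G, Commute g x → g • ω = ω) {g : G} (hg : g ∈ A) : g • ω = ω := by
  haveI := Fact.mk hp
  obtain ⟨a, b, ha, hb, rfl, -, ⟨j, hj⟩, hbp⟩ := H8.exists_pPart_pPrimePart hp g
  have haA : a ∈ A := (Subgroup.zpowers_le.2 hg) ha
  have hbA : b ∈ A := (Subgroup.zpowers_le.2 hg) hb
  have h1 : b • ω = ω := hC b (commute_of_coprime_of_isNilpotent hA hbA hx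
    (hbp.pow_right k) (pow_orderOf_eq_one b) hxk)
  rw [mul_smul, h1]
  have hP : IsPGroup p (Subgroup.closure ({a, x} : Set G)) := by
    refine L.isPGroup_closure_of_isNilpotent hp (K := A) ?_ ?_
    · rintro s (rfl | rfl)
      · exact haA
      · exact hx
    · rintro s (rfl | rfl)
      · exact ⟨j, by rw [← hj, pow_orderOf_eq_one]⟩
      · exact ⟨k, hxk⟩
  set P := Subgroup.closure ({a, x} : Set G) with hPdef
  have hxP : x ∈ P := Subgroup.subset_closure (by simp)
  have haP : a ∈ P := Subgroup.subset_closure (by simp)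
  have hZ : IsPGroup p (Subgroup.zpowers x) := hP.to_le (Subgroup.zpowers_le.2 hxP)
  have e1 := hP.card_modEq_card_fixedPoints X
  have e2 := hZ.card_modEq_card_fixedPoints X
  have hfix : MulAction.fixedPoints (Subgroup.zpowers x) X = MulAction.fixedBy X x := by
    ext y
    simp only [MulAction.mem_fixedPoints, MulAction.mem_fixedBy, Subtype.forall]
    constructor
    · intro h; exact h x (Subgroup.mem_zpowers x)
    · intro h s hs
      exact (Subgroup.zpowers_le.2 (MulAction.mem_stabilizer_iff.2 h)) hs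
  have hsub : MulAction.fixedPoints P X ⊆ MulAction.fixedBy X x := fun y hy => hy ⟨x, hxP⟩
  rw [hfix] at e2
  have e3 : (MulAction.fixedPoints P X).ncard ≡ (MulAction.fixedBy X x).ncard [MOD p] :=
    e1.symm.trans e2
  have hle := Set.ncard_le_ncard hsub (Set.toFinite _)
  have e4 : (MulAction.fixedPoints P X).ncard = (MulAction.fixedBy X x).ncard :=
    Nat.ModEq.eq_of_lt_of_lt e3 (hle.trans_lt hcard) hcard
  have e5 := Set.eq_of_subset_of_ncard_le hsub e4.ge (Set.toFinite _)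
  have hω : ω ∈ MulAction.fixedPoints P X := by
    rw [e5]; exact hC x (Commute.refl x)
  exact hω ⟨a, haP⟩

/-- The case of a unique fixed point. -/
theorem smul_eq_of_isNilpotent_of_unique [Finite G] {X : Type*} [Finite X] [MulAction G X] {p : ℕ}
    (hp : p.Prime) {A : Subgroup G} (hA : Group.IsNilpotent A) {x : G} (hx : x ∈ A) {k : ℕ}
    (hxk : x ^ p ^ k = 1) {ω : X} (hω : x • ω = ω) (huniq : ∀ y : X, x • y = y → y = ω)
    {g : G} (hg : g ∈ A) : g • ω = ω := by
  refine smul_eq_of_isNilpotent hp hA hx hxk ?_ ?_ hg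
  · have : MulAction.fixedBy X x = {ω} := by
      ext y
      simp only [MulAction.mem_fixedBy, Set.mem_singleton_iff]
      exact ⟨huniq y, fun h => h ▸ hω⟩
    rw [this, Set.ncard_singleton]
    exact hp.one_lt
  · intro c hc
    apply huniq
    rw [← mul_smul, ← hc.eq, mul_smul, hω]

/-- A cover by finitely many proper subgroups. -/
def IsCover (𝓐 : Finset (Subgroup G)) : Prop :=
  (∀ A ∈ 𝓐, A ≠ ⊤) ∧ (∀ g : G, ∃ A ∈ 𝓐, g ∈ A)

/-- A nilpotent minimal cover. -/
def IsNMC (𝓐 : Finset (Subgroup G)) : Prop :=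
  IsCover 𝓐 ∧ (∀ 𝓑 : Finset (Subgroup G), IsCover 𝓑 → 𝓐.card ≤ 𝓑.card) ∧
    (∀ A ∈ 𝓐, Group.IsNilpotent A)

theorem IsNMC.false_of_redundant {𝓐 : Finset (Subgroup G)} (h : IsNMC 𝓐) {A₀ : Subgroup G}
    (h₀ : A₀ ∈ 𝓐) (f : Subgroup G → Subgroup G) (hf : ∀ A ∈ 𝓐, A ≠ A₀ → f A ≠ ⊤)
    (hcov : ∀ g : G, ∃ A ∈ 𝓐, A ≠ A₀ ∧ g ∈ f A) : False := by
  classical
  have h1 := h.2.1 ((𝓐.erase A₀).image f) ⟨?_, ?_⟩
  · have h2 := Finset.card_image_le (s := 𝓐.erase A₀) (f := f)
    have h3 := Finset.card_erase_lt_of_mem h₀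
    omega
  · intro B hB
    obtain ⟨A, hA, rfl⟩ := Finset.mem_image.1 hB
    exact hf A (Finset.mem_of_mem_erase hA) (Finset.ne_of_mem_erase hA)
  · intro g
    obtain ⟨A, hA, hne, hg⟩ := hcov g
    exact ⟨f A, Finset.mem_image_of_mem f (Finset.mem_erase.2 ⟨hne, hA⟩), hg⟩

theorem IsNMC.sup_eq_top {𝓐 : Finset (Subgroup G)} (h : IsNMC 𝓐) {A B : Subgroup G}
    (hA : A ∈ 𝓐) (hB : B ∈ 𝓐) (hne : A ≠ B) : A ⊔ B = ⊤ := by
  classical
  by_contra hAB
  refine h.false_of_redundant hA (fun C => if C = B then A ⊔ B else C) ?_ ?_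
  · intro C hC _
    by_cases hCB : C = B
    · simpa [hCB] using hAB
    · simpa [hCB] using h.1.1 C hC
  · intro g
    obtain ⟨C, hC, hg⟩ := h.1.2 g
    by_cases hCA : C = A
    · refine ⟨B, hB, hne.symm, ?_⟩
      simp only [if_true]
      exact Subgroup.mem_sup_left (hCA ▸ hg)
    · refine ⟨C, hC, hCA, ?_⟩
      by_cases hCB : C = B
      · simp only [hCB, if_true]
        exact Subgroup.mem_sup_right (hCB ▸ hg)
      · simpa [hCB] using hg

theorem IsNMC.eq_of_le {𝓐 : Finset (Subgroup G)} (h : IsNMC 𝓐) {A B H : Subgroup G}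
    (hA : A ∈ 𝓐) (hB : B ∈ 𝓐) (hH : H ≠ ⊤) (hAH : A ≤ H) (hBH : B ≤ H) : A = B := by
  by_contra hne
  exact hH (top_le_iff.1 ((h.sup_eq_top hA hB hne).ge.trans (sup_le hAH hBH)))

theorem not_exists_isNMC_of_pair {x y : G} {H : Subgroup G} (hH : H ≠ ⊤)
    (hx : ∀ A : Subgroup G, Group.IsNilpotent A → x ∈ A → A ≤ H)
    (hy : ∀ A : Subgroup G, Group.IsNilpotent A → y ∈ A → A ≤ H)
    (hxy : ∀ A : Subgroup G, Group.IsNilpotent A → x ∈ A → y ∉ A) :
    ¬ ∃ 𝓐 : Finset (Subgroup G), IsNMC 𝓐 := by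
  rintro ⟨𝓐, h⟩
  obtain ⟨A, hA, hxA⟩ := h.1.2 x
  obtain ⟨B, hB, hyB⟩ := h.1.2 y
  have := h.eq_of_le hA hB hH (hx A (h.2.2 A hA) hxA) (hy B (h.2.2 B hB) hyB)
  exact hxy A (h.2.2 A hA) hxA (this ▸ hyB)

end Cfsg.Agent.H3
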