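import Mathlib
import Cfsg.Agent.H3.Cover

/-! Nilpotent subgroups of general linear groups containing suitable elements, for nilpotent
minimal covers. -/

set_option autoImplicit false

namespace Cfsg.Agent.H3

open scoped LinearAlgebra.Projectivization Matrix

section General

variable {Γ Q : Type*} [Group Γ] [Group Q]

theorem isNilpotent_comap_of_ker_le_center (π : Γ →* Q) (hker : π.ker ≤ Subgroup.center Γ)
    {A : Subgroup Q} (hA : Group.IsNilpotent A) : Group.IsNilpotent (A.comap π) := by
  let f : A.comap π →* A := (π.comp (A.comap π).subtype).codRestrict A (fun x => x.2)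
  refine isNilpotent_of_ker_le_center f ?_
  intro x hx
  rw [Subgroup.mem_center_iff]
  intro y
  have h1 : (x : Γ) ∈ π.ker := congrArg Subtype.val hx
  exact Subtype.ext (Subgroup.mem_center_iff.1 (hker h1) y)

theorem isNilpotent_map (π : Γ →* Q) {A : Subgroup Γ} (hA : Group.IsNilpotent A) :
    Group.IsNilpotent (A.map π) :=
  nilpotent_of_surjective (π.subgroupMap A) (π.subgroupMap_surjective A)

/-- The preimage of a nilpotent subgroup of a subgroup of a central quotient. -/
theorem isNilpotent_lift (π : Γ →* Q) (hker : π.ker ≤ Subgroup.center Γ) (G : Subgroup Q)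
    {A : Subgroup G} (hA : Group.IsNilpotent A) :
    Group.IsNilpotent ((A.map G.subtype).comap π) :=
  isNilpotent_comap_of_ker_le_center π hker (isNilpotent_map _ hA)

theorem mem_lift_iff (π : Γ →* Q) (G : Subgroup Q) (A : Subgroup G) {x : Γ} (hx : π x ∈ G) :
    x ∈ (A.map G.subtype).comap π ↔ (⟨π x, hx⟩ : G) ∈ A := by
  constructor
  · rintro ⟨a, ha, h⟩
    have : a = ⟨π x, hx⟩ := Subtype.ext h
    exact this ▸ ha
  · intro h; exact ⟨_, h, rfl⟩

theorem subgroupOf_map_ne_top (π : Γ →* Q) (G : Subgroup Q) {H : Subgroup Γ} (hH : π.ker ≤ H)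
    {s : Γ} (hs : π s ∈ G) (hsH : s ∉ H) : (H.map π).subgroupOf G ≠ ⊤ := by
  intro h
  have : (⟨π s, hs⟩ : G) ∈ (H.map π).subgroupOf G := h ▸ Subgroup.mem_top _
  obtain ⟨g, hg, hgs⟩ := Subgroup.mem_subgroupOf.1 this
  apply hsH
  have h1 : g⁻¹ * s ∈ π.ker := by
    rw [MonoidHom.mem_ker, map_mul, map_inv, hgs]; exact inv_mul_cancel _
  simpa using H.mul_mem hg (hH h1)

theorem not_exists_isNMC_of_conj (π : Γ →* Q) (hπ : Function.Surjective π)
    (hker : π.ker ≤ Subgroup.center Γ) (G : Subgroup Q) {x u s : Γ} (hx : π x ∈ G) (hu : π u ∈ G)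
    (hs : π s ∈ G) {D H : Subgroup Γ} (hDH : D ≤ H) (hH : π.ker ≤ H) (huH : u ∈ H) (hsH : s ∉ H)
    (hD : ∀ A : Subgroup Γ, Group.IsNilpotent A → x ∈ A → A ≤ D) (hne : u * x * u⁻¹ ∉ D) :
    ¬ ∃ 𝓐 : Finset (Subgroup G), IsNMC 𝓐 := by
  have hy : π (u * x * u⁻¹) ∈ G := by
    rw [map_mul, map_mul, map_inv]
    exact G.mul_mem (G.mul_mem hu hx) (G.inv_mem hu)
  have key : ∀ A : Subgroup G, (A.map G.subtype).comap π ≤ H → A ≤ (H.map π).subgroupOf G := by
    intro A hA a ha
    obtain ⟨g, hg⟩ := hπ a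
    refine Subgroup.mem_subgroupOf.2 ⟨g, hA ⟨a, ha, hg.symm⟩, hg⟩
  refine not_exists_isNMC_of_pair (x := ⟨π x, hx⟩) (y := ⟨π (u * x * u⁻¹), hy⟩)
    (subgroupOf_map_ne_top π G hH hs hsH) ?_ ?_ ?_
  · intro A hA hxA
    exact key A ((hD _ (isNilpotent_lift π hker G hA) ((mem_lift_iff π G A hx).2 hxA)).trans hDH)
  · intro A hA hyA
    apply key A
    have h1 := (mem_lift_iff π G A hy).2 hyA
    have h2 := hD _ (isNilpotent_map (MulAut.conj u⁻¹).toMonoidHom (isNilpotent_lift π hker G hA))
      ⟨_, h1, by simp [mul_assoc]⟩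
    intro g hg
    have h3 := hDH (h2 ⟨g, hg, rfl⟩)
    have h4 := H.mul_mem (H.mul_mem huH h3) (H.inv_mem huH)
    simpa [mul_assoc] using h4
  · intro A hA hxA hyA
    exact hne (hD _ (isNilpotent_lift π hker G hA) ((mem_lift_iff π G A hx).2 hxA)
      ((mem_lift_iff π G A hy).2 hyA))

end General

variable {F : Type*} [Field F] {n : Type*} [Fintype n] [DecidableEq n]

theorem single_one_ne_zero' (i : n) : (Pi.single i (1 : F) : n → F) ≠ 0 := by
  intro h
  have := congrFun h i
  simp at this

/-- The point of projective space spanned by a standard basis vector. -/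
def stdPt (F : Type*) [Field F] (i : n) : ℙ F (n → F) :=
  Projectivization.mk F (Pi.single i 1) (single_one_ne_zero' i)

theorem mk_eq_stdPt_iff {v : n → F} (hv : v ≠ 0) (i : n) :
    Projectivization.mk F v hv = stdPt F i ↔ ∀ j, j ≠ i → v j = 0 := by
  rw [stdPt, Projectivization.mk_eq_mk_iff']
  constructor
  · rintro ⟨c, rfl⟩ j hj
    simp [hj]
  · intro h
    refine ⟨v i, funext fun j => ?_⟩
    by_cases hj : j = i
    · subst hj; simp
    · simp [hj, h j hj]

theorem gl_smul_eq (g : GL n F) (v : n → F) : g • v = (g : Matrix n n F) *ᵥ v := rfl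

/-- The stabilizer of a standard basis line. -/
def lineStab (F : Type*) [Field F] (i : n) : Subgroup (GL n F) :=
  MulAction.stabilizer (GL n F) (stdPt F i)

theorem smul_stdPt_iff (g : GL n F) (i : n) :
    g • stdPt F i = stdPt F i ↔ ∀ j, j ≠ i → (g : Matrix n n F) j i = 0 := by
  conv_lhs => lhs; rw [stdPt, Projectivization.smul_mk]
  rw [mk_eq_stdPt_iff]
  simp [gl_smul_eq]

theorem mem_lineStab {g : GL n F} {i : n} :
    g ∈ lineStab F i ↔ ∀ j, j ≠ i → (g : Matrix n n F) j i = 0 :=
  smul_stdPt_iff g i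

theorem center_le_lineStab (i : n) : Subgroup.center (GL n F) ≤ lineStab F i := by
  intro g hg
  rw [mem_lineStab]
  intro j hj
  obtain ⟨c, hc⟩ := Matrix.GeneralLinearGroup.mem_center_iff_val_mem_range_scalar.1 hg
  rw [← hc]
  simp [hj]

theorem exists_smul_of_smul_mk_eq {g : GL n F} {v : n → F} (hv : v ≠ 0)
    (h : g • Projectivization.mk F v hv = Projectivization.mk F v hv) :
    ∃ c : F, (g : Matrix n n F) *ᵥ v = c • v := by
  rw [Projectivization.smul_mk, Projectivization.mk_eq_mk_iff'] at h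
  obtain ⟨c, hc⟩ := h
  exact ⟨c, hc.symm⟩

instance instFiniteProj [Finite F] : Finite (ℙ F (n → F)) := by
  unfold Projectivization
  infer_instance

/-- A nilpotent group containing a diagonal `r`-element with distinct entries, `r > n`,
is diagonal. -/
theorem le_lineStab_of_diagonal [Finite F] {d : n → F} (hd : Function.Injective d) {t : GL n F}
    (ht : (t : Matrix n n F) = Matrix.diagonal d) {r k : ℕ} (hr : r.Prime) (htr : t ^ r ^ k = 1)
    (hn : Fintype.card n < r) {A : Subgroup (GL n F)} (hA : Group.IsNilpotent A) (htA : t ∈ A)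
    (i : n) : A ≤ lineStab F i := by
  intro g hg
  refine smul_eq_of_isNilpotent hr hA htA htr ?_ ?_ hg
  · have : MulAction.fixedBy (ℙ F (n → F)) t ⊆ Set.range (stdPt F) := by
      intro y hy
      induction y using Projectivization.ind with
      | h v hv =>
        obtain ⟨c, hc⟩ := exists_smul_of_smul_mk_eq hv hy
        obtain ⟨i, hi⟩ := Function.ne_iff.1 hv
        refine ⟨i, ((mk_eq_stdPt_iff hv i).2 fun j hj => ?_).symm⟩
        have h1 := congrFun hc i
        have h2 := congrFun hc j
        simp only [ht, Matrix.mulVec_diagonal, Pi.smul_apply, smul_eq_mul] at h1 h2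
        by_contra h3
        exact hj (hd ((mul_right_cancel₀ h3 h2).trans (mul_right_cancel₀ hi h1).symm))
    refine (Set.ncard_le_ncard this (Set.toFinite _)).trans_lt (lt_of_le_of_lt ?_ hn)
    rw [← Set.image_univ]
    exact (Set.ncard_image_le (Set.toFinite _)).trans (by simp)
  · intro c hc
    rw [smul_stdPt_iff]
    intro j hj
    have h1 : ((c : Matrix n n F) * t) j i = ((t : Matrix n n F) * c) j i := by
      rw [← Units.val_mul, hc.eq, Units.val_mul]
    rw [ht, Matrix.mul_diagonal, Matrix.diagonal_mul, mul_comm] at h1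
    by_contra h2
    exact hj (hd (mul_right_cancel₀ h2 h1)).symm

/-- A nilpotent group containing a unipotent element with a single fixed line fixes the line. -/
theorem le_lineStab_of_unipotent [Finite F] {p : ℕ} (hp : p.Prime) [CharP F p] {x : GL n F} {k : ℕ}
    (hxk : x ^ p ^ k = 1) {i : n}
    (hker : ∀ v : n → F, (x : Matrix n n F) *ᵥ v = v ↔ ∀ j, j ≠ i → v j = 0)
    {A : Subgroup (GL n F)} (hA : Group.IsNilpotent A) (hxA : x ∈ A) : A ≤ lineStab F i := by
  haveI := Fact.mk hp
  intro g hg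
  refine smul_eq_of_isNilpotent_of_unique hp hA hxA hxk ?_ ?_ hg
  · rw [smul_stdPt_iff]
    intro j hj
    have := congrFun ((hker (Pi.single i 1)).2 (fun j hj => by simp [hj])) j
    simpa [hj] using this
  · intro y hy
    induction y using Projectivization.ind with
    | h v hv =>
      obtain ⟨c, hc⟩ := exists_smul_of_smul_mk_eq hv hy
      have h1 : ∀ m : ℕ, ((x ^ m : GL n F) : Matrix n n F) *ᵥ v = c ^ m • v := by
        intro m
        induction m with
        | zero => simp
        | succ m ih =>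
          rw [pow_succ, Units.val_mul, ← Matrix.mulVec_mulVec, hc, Matrix.mulVec_smul, ih,
            smul_smul, pow_succ']
      have h2 := h1 (p ^ k)
      rw [hxk, Units.val_one, Matrix.one_mulVec] at h2
      have h3 : c ^ p ^ k = 1 := by
        have : (c ^ p ^ k - 1) • v = 0 := by rw [sub_smul, ← h2, one_smul, sub_self]
        exact sub_eq_zero.1 ((smul_eq_zero.1 this).resolve_right hv)
      have h4 : c = 1 := by
        have : (c - 1) ^ p ^ k = 0 := by rw [sub_pow_char_pow, h3, one_pow, sub_self]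
        exact sub_eq_zero.1 (pow_eq_zero_iff (pow_ne_zero k hp.ne_zero) |>.1 this)
      rw [h4, one_smul] at hc
      exact (mk_eq_stdPt_iff hv i).2 ((hker v).1 hc)

end Cfsg.Agent.H3
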