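import Mathlib
import Cfsg.Agent.H3.CoverLin

/-! No nilpotent minimal covers for groups between `PSL_n` and `PGL_n`: the case `n ≥ 3`. -/

set_option autoImplicit false

namespace Cfsg.Agent.H3

open scoped Matrix

variable {F : Type*} [Field F]

/-- The inverse-transpose automorphism. -/
def invTranspose {n : Type*} [Fintype n] [DecidableEq n] (F : Type*) [Field F] :
    GL n F →* GL n F :=
  MonoidHom.mk' (fun g => ⟨((g⁻¹ : GL n F) : Matrix n n F)ᵀ, (g : Matrix n n F)ᵀ,
    by rw [← Matrix.transpose_mul, Units.mul_inv, Matrix.transpose_one],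
    by rw [← Matrix.transpose_mul, Units.inv_mul, Matrix.transpose_one]⟩)
    (fun a b => Units.ext (by
      simp only [mul_inv_rev, Units.val_mul, Matrix.transpose_mul]))

theorem invTranspose_inv_val {n : Type*} [Fintype n] [DecidableEq n] (g : GL n F) :
    ((invTranspose F g⁻¹ : GL n F) : Matrix n n F) = (g : Matrix n n F)ᵀ := rfl

/-- The shift matrix. -/
def shiftMat (F : Type*) [Field F] (n : ℕ) : Matrix (Fin n) (Fin n) F :=
  Matrix.of fun i j => if j.val = i.val + 1 then 1 else 0

theorem shiftMat_pow_apply (n m : ℕ) (i j : Fin n) (h : (shiftMat F n ^ m) i j ≠ 0) :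
    i.val + m ≤ j.val := by
  induction m generalizing j with
  | zero =>
    rw [pow_zero, Matrix.one_apply] at h
    have : i = j := by by_contra h'; exact h (if_neg h')
    simp [this]
  | succ m ih =>
    rw [pow_succ, Matrix.mul_apply] at h
    obtain ⟨k, -, hk⟩ := Finset.exists_ne_zero_of_sum_ne_zero h
    have h1 := ih k (left_ne_zero_of_mul hk)
    have h2 := right_ne_zero_of_mul hk
    simp only [shiftMat, Matrix.of_apply, ne_eq, ite_eq_right_iff, one_ne_zero, imp_false,
      not_not] at h2
    omega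

theorem shiftMat_pow_eq_zero {n m : ℕ} (h : n ≤ m) : shiftMat F n ^ m = 0 := by
  ext i j
  by_contra h1
  have := shiftMat_pow_apply n m i j h1
  have := j.2
  omega

theorem det_one_add_shiftMat (n : ℕ) : (1 + shiftMat F n).det = 1 := by
  rw [Matrix.det_of_isUpperTriangular]
  · simp [shiftMat]
  · intro i j hij
    have h1 : j.val < i.val := hij
    have h2 : i ≠ j := by rintro rfl; omega
    have h3 : ¬ j.val = i.val + 1 := by omega
    simp [shiftMat, h2, h3]

theorem shiftMat_mulVec_eq_zero_iff {n : ℕ} (i0 : Fin n) (h0 : i0.val = 0) (v : Fin n → F) :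
    shiftMat F n *ᵥ v = 0 ↔ ∀ j, j ≠ i0 → v j = 0 := by
  constructor
  · intro h j hj
    have hj' : j.val ≠ 0 := fun h' => hj (Fin.ext (h'.trans h0.symm))
    have := congrFun h ⟨j.val - 1, by omega⟩
    simp only [shiftMat, Matrix.mulVec, dotProduct, Matrix.of_apply, ite_mul, one_mul, zero_mul,
      Pi.zero_apply] at this
    rw [Finset.sum_eq_single j] at this
    · rwa [if_pos (by omega)] at this
    · intro k _ hk
      rw [if_neg]
      intro h'
      exact hk (Fin.ext (by omega))
    · simp
  · intro h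
    ext i
    simp only [shiftMat, Matrix.mulVec, dotProduct, Matrix.of_apply, ite_mul, one_mul, zero_mul,
      Pi.zero_apply]
    refine Finset.sum_eq_zero fun k _ => ?_
    split_ifs with hk
    · exact h k (fun h' => by rw [h'] at hk; omega)
    · rfl

theorem shiftMat_transpose_mulVec_eq_zero_iff {n : ℕ} (il : Fin n) (hl : il.val + 1 = n)
    (v : Fin n → F) : (shiftMat F n)ᵀ *ᵥ v = 0 ↔ ∀ j, j ≠ il → v j = 0 := by
  constructor
  · intro h j hj
    have hj' : j.val ≠ il.val := fun h' => hj (Fin.ext h')
    have := congrFun h ⟨j.val + 1, by omega⟩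
    simp only [shiftMat, Matrix.mulVec, dotProduct, Matrix.transpose_apply, Matrix.of_apply,
      ite_mul, one_mul, zero_mul, Pi.zero_apply] at this
    rw [Finset.sum_eq_single j] at this
    · rwa [if_pos rfl] at this
    · intro k _ hk
      rw [if_neg]
      intro h'
      exact hk (Fin.ext (by omega))
    · simp
  · intro h
    ext i
    simp only [shiftMat, Matrix.mulVec, dotProduct, Matrix.transpose_apply, Matrix.of_apply,
      ite_mul, one_mul, zero_mul, Pi.zero_apply]
    refine Finset.sum_eq_zero fun k _ => ?_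
    split_ifs with hk
    · exact h k (fun h' => by rw [h'] at hk; have := i.2; omega)
    · rfl

theorem not_exists_isNMC_of_three_le [Finite F] {n : ℕ} (hn : 3 ≤ n)
    (G : Subgroup (GL (Fin n) F ⧸ Subgroup.center (GL (Fin n) F)))
    (hG : ∀ g : GL (Fin n) F, (g : Matrix (Fin n) (Fin n) F).det = 1 →
      QuotientGroup.mk' (Subgroup.center (GL (Fin n) F)) g ∈ G) :
    ¬ ∃ 𝓐 : Finset (Subgroup G), IsNMC 𝓐 := by
  obtain ⟨p, hp⟩ := CharP.exists F
  have hpp : p.Prime := CharP.char_is_prime F p
  haveI := Fact.mk hpp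
  let i0 : Fin n := ⟨0, by omega⟩
  let i1 : Fin n := ⟨1, by omega⟩
  let i2 : Fin n := ⟨2, by omega⟩
  let il : Fin n := ⟨n - 1, by omega⟩
  haveI : Nonempty (Fin n) := ⟨i0⟩
  have h10 : i1 ≠ i0 := by simp [i1, i0, Fin.ext_iff]
  have hl1 : il ≠ i1 := by simp only [il, i1, ne_eq, Fin.ext_iff]; omega
  let x : GL (Fin n) F := Matrix.GeneralLinearGroup.mkOfDetNeZero (1 + shiftMat F n)
    (by rw [det_one_add_shiftMat]; exact one_ne_zero)
  have hx : (x : Matrix (Fin n) (Fin n) F) = 1 + shiftMat F n := rfl
  let u : GL (Fin n) F := Matrix.GeneralLinearGroup.mkOfDetNeZero (Matrix.transvection il i1 1)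
    (by rw [Matrix.det_transvection_of_ne _ _ hl1]; exact one_ne_zero)
  have hu : (u : Matrix (Fin n) (Fin n) F) = Matrix.transvection il i1 1 := rfl
  let s : GL (Fin n) F := Matrix.GeneralLinearGroup.mkOfDetNeZero (Matrix.transvection i1 i0 1)
    (by rw [Matrix.det_transvection_of_ne _ _ h10]; exact one_ne_zero)
  have hs : (s : Matrix (Fin n) (Fin n) F) = Matrix.transvection i1 i0 1 := rfl
  have hxp : x ^ p ^ n = 1 := by
    apply Units.ext
    rw [Units.val_pow_eq_pow_val, hx, add_pow_char_pow_of_commute _ _ (Commute.one_left _),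
      shiftMat_pow_eq_zero (Nat.lt_pow_self hpp.one_lt).le]
    simp
  refine not_exists_isNMC_of_conj (QuotientGroup.mk' _) (QuotientGroup.mk'_surjective _)
    (by rw [QuotientGroup.ker_mk']) G (x := x) (u := u) (s := s)
    (hG x (det_one_add_shiftMat n)) (hG u (Matrix.det_transvection_of_ne _ _ hl1 _))
    (hG s (Matrix.det_transvection_of_ne _ _ h10 _))
    (D := lineStab F i0 ⊓ (lineStab F il).comap (invTranspose F)) (H := lineStab F i0) inf_le_left
    (by rw [QuotientGroup.ker_mk']; exact center_le_lineStab i0) ?_ ?_ ?_ ?_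
  · rw [mem_lineStab]
    intro j hj
    simp [hu, Matrix.transvection, Matrix.single_apply, hj, h10]
  · rw [mem_lineStab]
    intro h
    have := h i1 h10
    simp [hs, Matrix.transvection, h10] at this
  · intro A hA hxA
    refine le_inf (le_lineStab_of_unipotent hpp hxp (fun v => ?_) hA hxA) ?_
    · rw [hx, Matrix.add_mulVec, Matrix.one_mulVec, add_eq_left]
      exact shiftMat_mulVec_eq_zero_iff i0 rfl v
    · rw [← Subgroup.map_le_iff_le_comap]
      refine le_lineStab_of_unipotent hpp (x := invTranspose F x⁻¹) (k := n)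
        (by rw [← map_pow, inv_pow, hxp, inv_one, map_one]) (fun v => ?_) (isNilpotent_map _ hA)
        ⟨x⁻¹, A.inv_mem hxA, rfl⟩
      rw [invTranspose_inv_val, hx, Matrix.transpose_add, Matrix.transpose_one, Matrix.add_mulVec,
        Matrix.one_mulVec, add_eq_left]
      exact shiftMat_transpose_mulVec_eq_zero_iff il (by simp only [il]; omega) v
  · intro h
    set y := u * x * u⁻¹ with hy
    have h1 : ∀ j, j ≠ il → (y : Matrix (Fin n) (Fin n) F) il j = 0 :=
      mem_lineStab.1 (Subgroup.inv_mem _ h.2)
    have h2 : (y : Matrix (Fin n) (Fin n) F) * u = u * x := by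
      rw [← Units.val_mul, ← Units.val_mul, hy, inv_mul_cancel_right]
    have h3 : ∀ j, (y : Matrix (Fin n) (Fin n) F) il il * (u : Matrix (Fin n) (Fin n) F) il j =
        (x : Matrix (Fin n) (Fin n) F) il j + (x : Matrix (Fin n) (Fin n) F) i1 j := by
      intro j
      have := congrFun (congrFun h2 il) j
      rw [Matrix.mul_apply, Finset.sum_eq_single il (fun k _ hk => by rw [h1 k hk, zero_mul])
        (by simp)] at this
      rw [this, hu, Matrix.transvection_mul_apply_same, one_mul]
    have h4 := h3 i1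
    have h5 := h3 i2
    have e1 : ¬ (1 : ℕ) = n - 1 + 1 := by omega
    have e2 : ¬ (2 : ℕ) = n - 1 + 1 := by omega
    have e3 : i1 ≠ i2 := by simp [i1, i2, Fin.ext_iff]
    simp only [hu, hx, Matrix.transvection, Matrix.add_apply, Matrix.one_apply_ne hl1,
      Matrix.single_apply_same, shiftMat, Matrix.of_apply, Matrix.one_apply_eq] at h4
    simp only [i1, il, e1, if_false] at h4
    simp only [hu, hx, Matrix.transvection, Matrix.add_apply, Matrix.one_apply_ne e3,
      Matrix.single_apply, e3, shiftMat, Matrix.of_apply] at h5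
    simp only [i1, i2, il, e2, if_false] at h5
    norm_num at h4 h5
    rw [h4] at h5
    simp at h5

end Cfsg.Agent.H3
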