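import Mathlib
import Cfsg.Agent.H3.CoverLin

/-! No nilpotent minimal covers for groups between `PSL_2` and `PGL_2`; centralizers in `GL_2`. -/

set_option autoImplicit false

namespace Cfsg.Agent.H3

open scoped Matrix

variable {F : Type*} [Field F]

theorem commute_two_iff (x y : Matrix (Fin 2) (Fin 2) F) :
    x * y = y * x ↔ x 0 1 * y 1 0 = y 0 1 * x 1 0 ∧
      y 0 1 * (x 0 0 - x 1 1) = x 0 1 * (y 0 0 - y 1 1) ∧
      x 1 0 * (y 0 0 - y 1 1) = y 1 0 * (x 0 0 - x 1 1) := by
  constructor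
  · intro h
    have h1 := congrFun (congrFun h 0) 0
    have h2 := congrFun (congrFun h 0) 1
    have h3 := congrFun (congrFun h 1) 0
    simp only [Matrix.mul_apply, Fin.sum_univ_two] at h1 h2 h3
    exact ⟨by linear_combination h1, by linear_combination h2, by linear_combination h3⟩
  · rintro ⟨h1, h2, h3⟩
    ext i j
    fin_cases i <;> fin_cases j <;> simp only [Matrix.mul_apply, Fin.sum_univ_two, Fin.zero_eta,
      Fin.mk_one, Fin.isValue]
    · linear_combination h1
    · linear_combination h2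
    · linear_combination h3
    · linear_combination -h1

theorem gl_commute_two_iff (x y : GL (Fin 2) F) :
    Commute x y ↔ x.1 0 1 * y.1 1 0 = y.1 0 1 * x.1 1 0 ∧
      y.1 0 1 * (x.1 0 0 - x.1 1 1) = x.1 0 1 * (y.1 0 0 - y.1 1 1) ∧
      x.1 1 0 * (y.1 0 0 - y.1 1 1) = y.1 1 0 * (x.1 0 0 - x.1 1 1) := by
  rw [← commute_two_iff, Commute, SemiconjBy, Units.ext_iff, Units.val_mul, Units.val_mul]

theorem mem_center_two_of {s : GL (Fin 2) F} (h1 : s.1 0 1 = 0) (h2 : s.1 1 0 = 0)
    (h3 : s.1 0 0 = s.1 1 1) : s ∈ Subgroup.center (GL (Fin 2) F) := by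
  rw [Subgroup.mem_center_iff]
  intro g
  exact ((gl_commute_two_iff g s).2 (by simp [h1, h2, h3])).eq

/-- The centralizer of a non-central element of `GL_2` is abelian. -/
theorem commute_of_commute_noncentral {s a b : GL (Fin 2) F}
    (hs : s ∉ Subgroup.center (GL (Fin 2) F)) (ha : Commute a s) (hb : Commute b s) :
    Commute a b := by
  rw [gl_commute_two_iff] at ha hb ⊢
  obtain ⟨a1, a2, a3⟩ := ha
  obtain ⟨b1, b2, b3⟩ := hb
  by_cases h1 : s.1 0 1 = 0
  · by_cases h2 : s.1 1 0 = 0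
    · have h3 : s.1 0 0 - s.1 1 1 ≠ 0 := fun h => hs (mem_center_two_of h1 h2 (sub_eq_zero.1 h))
      refine ⟨mul_left_cancel₀ h3 ?_, mul_left_cancel₀ h3 ?_, mul_left_cancel₀ h3 ?_⟩
      · linear_combination (a.1 0 1) * b3 - (b.1 0 1) * a3 - (a.1 0 0 - a.1 1 1) * b1 +
          (b.1 0 0 - b.1 1 1) * a1 + (b.1 1 0 * (a.1 0 0 - a.1 1 1) * 0) * h1 -
          ((a.1 0 0 - a.1 1 1) * b.1 1 0 - (b.1 0 0 - b.1 1 1) * a.1 1 0) * h1
      · linear_combination -(a.1 0 0 - a.1 1 1) * b2 + (b.1 0 0 - b.1 1 1) * a2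
      · linear_combination (b.1 0 0 - b.1 1 1) * a3 - (a.1 0 0 - a.1 1 1) * b3
    · refine ⟨mul_left_cancel₀ h2 ?_, mul_left_cancel₀ h2 ?_, mul_left_cancel₀ h2 ?_⟩
      · linear_combination (b.1 1 0) * a1 - (a.1 1 0) * b1
      · linear_combination (a.1 0 0 - a.1 1 1) * b1 - (b.1 0 0 - b.1 1 1) * a1 +
          ((a.1 0 0 - a.1 1 1) * b.1 1 0 - (b.1 0 0 - b.1 1 1) * a.1 1 0) * h1
      · linear_combination -(a.1 1 0) * b3 + (b.1 1 0) * a3
  · refine ⟨mul_left_cancel₀ h1 ?_, mul_left_cancel₀ h1 ?_, mul_left_cancel₀ h1 ?_⟩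
    · linear_combination -(a.1 0 1) * b1 + (b.1 0 1) * a1
    · linear_combination (b.1 0 1) * a2 - (a.1 0 1) * b2
    · linear_combination (a.1 1 0) * b2 + (b.1 0 1) * a3 + (a.1 0 0 - a.1 1 1) * b1

theorem centralizer_eq_of_commute_noncentral {s t : GL (Fin 2) F}
    (hs : s ∉ Subgroup.center (GL (Fin 2) F)) (ht : t ∉ Subgroup.center (GL (Fin 2) F))
    (h : Commute s t) :
    Subgroup.centralizer ({s} : Set (GL (Fin 2) F)) = Subgroup.centralizer {t} := by
  ext g
  simp only [Subgroup.mem_centralizer_singleton_iff]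
  exact ⟨fun hg => (commute_of_commute_noncentral hs hg h.symm).eq,
    fun hg => (commute_of_commute_noncentral ht hg h).eq⟩

theorem conj_not_mem_center {G : Type*} [Group G] {s : G} (hs : s ∉ Subgroup.center G) (g : G) :
    g * s * g⁻¹ ∉ Subgroup.center G := by
  intro h
  apply hs
  have := (inferInstance : (Subgroup.center G).Normal).conj_mem _ h g⁻¹
  simpa [mul_assoc] using this

theorem mem_normalizer_centralizer_iff {s g : GL (Fin 2) F}
    (hs : s ∉ Subgroup.center (GL (Fin 2) F)) :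
    g ∈ Subgroup.normalizer ((Subgroup.centralizer ({s} : Set (GL (Fin 2) F)) :
      Subgroup (GL (Fin 2) F)) : Set (GL (Fin 2) F)) ↔ Commute (g * s * g⁻¹) s := by
  constructor
  · intro h
    have := (Subgroup.mem_normalizer_iff.1 h s).1 (Subgroup.mem_centralizer_singleton_iff.2 rfl)
    exact Subgroup.mem_centralizer_singleton_iff.1 this
  · intro h
    rw [Subgroup.mem_normalizer_iff]
    intro a
    conv_rhs => rw [← centralizer_eq_of_commute_noncentral (conj_not_mem_center hs g) hs h]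
    simp only [Subgroup.mem_centralizer_singleton_iff]
    constructor
    · intro ha
      calc g * a * g⁻¹ * (g * s * g⁻¹) = g * (a * s) * g⁻¹ := by group
        _ = g * s * g⁻¹ * (g * a * g⁻¹) := by rw [ha]; group
    · intro ha
      calc a * s = g⁻¹ * (g * a * g⁻¹ * (g * s * g⁻¹)) * g := by group
        _ = s * a := by rw [ha]; group

/-- The upper elementary matrix. -/
def upEl (F : Type*) [Field F] : GL (Fin 2) F :=
  ⟨!![1, 1; 0, 1], !![1, -1; 0, 1], by ext i j; fin_cases i <;> fin_cases j <;> simp,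
    by ext i j; fin_cases i <;> fin_cases j <;> simp⟩

/-- The lower elementary matrix. -/
def lowEl (F : Type*) [Field F] : GL (Fin 2) F :=
  ⟨!![1, 0; 1, 1], !![1, 0; -1, 1], by ext i j; fin_cases i <;> fin_cases j <;> simp,
    by ext i j; fin_cases i <;> fin_cases j <;> simp⟩

theorem det_upEl : (upEl F).1.det = 1 := by simp [upEl, Matrix.det_fin_two]

theorem det_lowEl : (lowEl F).1.det = 1 := by simp [lowEl, Matrix.det_fin_two]

theorem upEl_conj (s : GL (Fin 2) F) : (upEl F * s * (upEl F)⁻¹).1 =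
    !![s.1 0 0 + s.1 1 0, s.1 0 1 + s.1 1 1 - s.1 0 0 - s.1 1 0; s.1 1 0, s.1 1 1 - s.1 1 0] := by
  change !![1, 1; 0, 1] * s.1 * !![1, -1; 0, 1] = _
  ext i j
  fin_cases i <;> fin_cases j <;>
    simp [Matrix.mul_apply, Fin.sum_univ_two, Matrix.vecMul, dotProduct] <;> ring

theorem lowEl_conj (s : GL (Fin 2) F) : (lowEl F * s * (lowEl F)⁻¹).1 =
    !![s.1 0 0 - s.1 0 1, s.1 0 1; s.1 0 0 + s.1 1 0 - s.1 0 1 - s.1 1 1, s.1 0 1 + s.1 1 1] := by
  change !![1, 0; 1, 1] * s.1 * !![1, 0; -1, 1] = _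
  ext i j
  fin_cases i <;> fin_cases j <;>
    simp [Matrix.mul_apply, Fin.sum_univ_two, Matrix.vecMul, dotProduct] <;> ring

theorem exists_det_one_not_commute_conj (h2 : (2 : F) ≠ 0) {s : GL (Fin 2) F}
    (hs : s ∉ Subgroup.center (GL (Fin 2) F)) :
    ∃ e : GL (Fin 2) F, e.1.det = 1 ∧ ¬ Commute (e * s * e⁻¹) s := by
  by_contra h
  push Not at h
  have h1 := (gl_commute_two_iff _ _).1 (h _ det_upEl)
  have h3 := (gl_commute_two_iff _ _).1 (h _ det_lowEl)
  rw [upEl_conj] at h1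
  rw [lowEl_conj] at h3
  simp only [Matrix.of_apply, Matrix.cons_val', Matrix.cons_val_one, Matrix.cons_val_fin_one,
    Matrix.cons_val_zero] at h1 h3
  have hc : s.1 1 0 = 0 := by
    have : 2 * s.1 1 0 ^ 2 = 0 := by linear_combination -h1.2.2
    simpa [h2] using this
  have hb : s.1 0 1 = 0 := by
    have : 2 * s.1 0 1 ^ 2 = 0 := by linear_combination -h3.2.1
    simpa [h2] using this
  have hd : s.1 0 0 = s.1 1 1 := by
    have := h1.2.1
    rw [hb, hc] at this
    have h4 : (s.1 0 0 - s.1 1 1) ^ 2 = 0 := by linear_combination this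
    exact sub_eq_zero.1 (pow_eq_zero_iff two_ne_zero |>.1 h4)
  exact hs (mem_center_two_of hb hc hd)

/-- A diagonal element of `GL_2` of determinant one. -/
def diagEl (a : Fˣ) : GL (Fin 2) F :=
  ⟨Matrix.diagonal ![(a : F), (a⁻¹ : Fˣ)], Matrix.diagonal ![((a⁻¹ : Fˣ) : F), a], by
      rw [Matrix.diagonal_mul_diagonal, ← Matrix.diagonal_one]
      congr 1; ext i; fin_cases i <;> simp, by
      rw [Matrix.diagonal_mul_diagonal, ← Matrix.diagonal_one]
      congr 1; ext i; fin_cases i <;> simp⟩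

theorem det_diagEl (a : Fˣ) : (diagEl a).1.det = 1 := by simp [diagEl]

theorem pow_card_sub_one_of_diag [Fintype F] {g : GL (Fin 2) F} (h1 : g.1 0 1 = 0)
    (h2 : g.1 1 0 = 0) : g ^ (Fintype.card F - 1) = 1 := by
  have h3 : g.1 = Matrix.diagonal ![g.1 0 0, g.1 1 1] := by
    ext i j
    fin_cases i <;> fin_cases j <;> simp [h1, h2]
  have h4 : g.1.det ≠ 0 := (Matrix.isUnits_det_units g).ne_zero
  rw [Matrix.det_fin_two, h1, zero_mul, sub_zero] at h4
  apply Units.ext
  rw [Units.val_pow_eq_pow_val, h3, Matrix.diagonal_pow, Units.val_one, ← Matrix.diagonal_one]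
  congr 1
  ext i
  fin_cases i
  · simpa using FiniteField.pow_card_sub_one_eq_one _ (left_ne_zero_of_mul h4)
  · simpa using FiniteField.pow_card_sub_one_eq_one _ (right_ne_zero_of_mul h4)

theorem pow_card_sub_one_of_center [Fintype F] {g : GL (Fin 2) F}
    (h : g ∈ Subgroup.center (GL (Fin 2) F)) : g ^ (Fintype.card F - 1) = 1 :=
  pow_card_sub_one_of_diag (mem_lineStab.1 (center_le_lineStab 1 h) 0 (by decide))
    (mem_lineStab.1 (center_le_lineStab 0 h) 1 (by decide))

theorem card_centralizer_of_no_eigenvector [Fintype F] {g : GL (Fin 2) F}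
    (hg : ∀ (v : Fin 2 → F) (c : F), g.1 *ᵥ v = c • v → v = 0) :
    Nat.card (Subgroup.centralizer ({g} : Set (GL (Fin 2) F))) = Fintype.card F ^ 2 - 1 := by
  classical
  have h10 : g.1 1 0 ≠ 0 := by
    intro h
    have := hg ![1, 0] (g.1 0 0) (by
      ext i; fin_cases i <;> simp [Matrix.mulVec, dotProduct, Fin.sum_univ_two, h])
    simpa using congrFun this 0
  have hdet : ∀ p : F × F, p ≠ 0 → (p.1 • (1 : Matrix (Fin 2) (Fin 2) F) + p.2 • g.1).det ≠ 0 := by
    rintro ⟨a, b⟩ hp hd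
    obtain ⟨v, hv, h⟩ := Matrix.exists_mulVec_eq_zero_iff.2 hd
    rw [Matrix.add_mulVec, Matrix.smul_mulVec, Matrix.smul_mulVec, Matrix.one_mulVec] at h
    by_cases hb : b = 0
    · subst hb
      simp only [zero_smul, add_zero, smul_eq_zero, hv, or_false] at h
      subst h
      exact hp rfl
    · apply hv
      apply hg v (-(a / b))
      have : b • (g.1 *ᵥ v) = b • ((-(a / b)) • v) := by
        rw [smul_smul, eq_neg_of_add_eq_zero_right h, ← neg_smul]
        congr 1
        field_simp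
      exact smul_right_injective _ hb this
  let φ : {p : F × F // p ≠ 0} → Subgroup.centralizer ({g} : Set (GL (Fin 2) F)) := fun p =>
    ⟨Matrix.GeneralLinearGroup.mkOfDetNeZero _ (hdet p.1 p.2), by
      rw [Subgroup.mem_centralizer_singleton_iff]
      apply Units.ext
      change (p.1.1 • (1 : Matrix (Fin 2) (Fin 2) F) + p.1.2 • g.1) * g.1 =
        g.1 * (p.1.1 • (1 : Matrix (Fin 2) (Fin 2) F) + p.1.2 • g.1)
      simp [add_mul, mul_add]⟩
  have hφ : ∀ p, (φ p).1.1 = p.1.1 • (1 : Matrix (Fin 2) (Fin 2) F) + p.1.2 • g.1 := fun p => rfl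
  have hbij : Function.Bijective φ := by
    constructor
    · intro p q h
      have h1 : (φ p).1.1 = (φ q).1.1 := by rw [h]
      rw [hφ, hφ] at h1
      have h2 := congrFun (congrFun h1 1) 0
      have h3 := congrFun (congrFun h1 0) 0
      simp [h10] at h2
      simp [h2] at h3
      exact Subtype.ext (Prod.ext h3 h2)
    · rintro ⟨x, hx⟩
      have hx' := (gl_commute_two_iff x g).1 (Subgroup.mem_centralizer_singleton_iff.1 hx)
      have e : x.1 = (x.1 0 0 - x.1 1 0 / g.1 1 0 * g.1 0 0) • (1 : Matrix (Fin 2) (Fin 2) F) +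
          (x.1 1 0 / g.1 1 0) • g.1 := by
        ext i j
        fin_cases i <;> fin_cases j <;> simp <;> field_simp
        · linear_combination hx'.1
        · linear_combination hx'.2.2
      refine ⟨⟨(x.1 0 0 - x.1 1 0 / g.1 1 0 * g.1 0 0, x.1 1 0 / g.1 1 0), ?_⟩, ?_⟩
      · intro h
        rw [Prod.mk_eq_zero] at h
        rw [h.1, h.2, zero_smul, zero_smul, add_zero] at e
        exact x.ne_zero e
      · exact Subtype.ext (Units.ext e.symm)
  rw [← Nat.card_eq_of_bijective φ hbij, Nat.card_eq_fintype_card, Fintype.card_subtype_compl,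
    Fintype.card_prod, sq]
  simp

theorem exists_transvection_of_eigenvector {p : ℕ} (hp : p.Prime) [CharP F p] {g : GL (Fin 2) F}
    {v : Fin 2 → F} (hv : v ≠ 0) {c : F} (h : g.1 *ᵥ v = c • v) :
    ∃ s : GL (Fin 2) F, orderOf s = p ∧ Commute (g * s * g⁻¹) s := by
  haveI := Fact.mk hp
  let φ : Fin 2 → F := ![-v 1, v 0]
  have hφ : φ ⬝ᵥ v = 0 := by simp [φ, dotProduct, Fin.sum_univ_two]; ring
  let N := Matrix.vecMulVec v φ
  have key : ∀ (M : Matrix (Fin 2) (Fin 2) F) (d : F), M *ᵥ v = d • v → N * M * N = 0 := by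
    intro M d hM
    rw [mul_assoc, Matrix.mul_vecMulVec, Matrix.vecMulVec_mul_vecMulVec, hM, dotProduct_smul, hφ]
    simp
  have hNN : N * N = 0 := by simpa using key 1 1 (by simp)
  have hc : c ≠ 0 := by
    rintro rfl
    apply hv
    have : (g⁻¹).1 *ᵥ (g.1 *ᵥ v) = 0 := by rw [h]; simp
    rwa [Matrix.mulVec_mulVec, Units.inv_mul, Matrix.one_mulVec] at this
  have h' : (g⁻¹).1 *ᵥ v = c⁻¹ • v := by
    have : (g⁻¹).1 *ᵥ (g.1 *ᵥ v) = v := by
      rw [Matrix.mulVec_mulVec, Units.inv_mul, Matrix.one_mulVec]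
    rw [h, Matrix.mulVec_smul] at this
    conv_rhs => rw [← this, smul_smul, inv_mul_cancel₀ hc, one_smul]
  let s : GL (Fin 2) F := ⟨1 + N, 1 - N, by rw [add_mul, mul_sub, mul_sub, hNN]; simp,
    by rw [sub_mul, mul_add, mul_add, hNN]; simp⟩
  have hs : s.1 = 1 + N := rfl
  refine ⟨s, ?_, ?_⟩
  · apply orderOf_eq_prime
    · apply Units.ext
      rw [Units.val_pow_eq_pow_val, hs, add_pow_char_of_commute _ (Commute.one_left _),
        pow_eq_zero_of_le (a := N) hp.two_le (by rw [sq, hNN])]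
      simp
    · intro h1
      have h2 : N = 0 := by
        have := congrArg Units.val h1
        rw [hs] at this
        simpa using this
      apply hv
      have h3 := congrFun (congrFun h2 0) 1
      have h4 := congrFun (congrFun h2 1) 0
      simp only [N, φ, Matrix.vecMulVec_apply] at h3 h4
      simp at h3 h4
      ext i; fin_cases i <;> simp [h3, h4]
  · apply Units.ext
    simp only [Units.val_mul, hs]
    have e1 := key _ _ h
    have e2 := key _ _ h'
    have e3 : g.1 * (1 + N) * (g⁻¹).1 = 1 + g.1 * N * (g⁻¹).1 := by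
      rw [mul_add, add_mul, mul_one, Units.mul_inv]
    rw [e3]
    have e4 : g.1 * N * (g⁻¹).1 * N = 0 := by
      rw [mul_assoc g.1, mul_assoc g.1, e2, mul_zero]
    have e5 : N * (g.1 * N * (g⁻¹).1) = 0 := by
      rw [← mul_assoc, ← mul_assoc, e1, zero_mul]
    rw [add_mul, mul_add, mul_add, e4, add_mul, mul_add, mul_add, e5]
    simp only [mul_one, one_mul, add_zero]
    abel

theorem not_exists_isNMC_two_of_odd_prime [Fintype F] {r : ℕ} (hr : r.Prime) (hr2 : r ≠ 2)
    (hrd : r ∣ Fintype.card F - 1)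
    (G : Subgroup (GL (Fin 2) F ⧸ Subgroup.center (GL (Fin 2) F)))
    (hG : ∀ g : GL (Fin 2) F, (g : Matrix (Fin 2) (Fin 2) F).det = 1 →
      QuotientGroup.mk' (Subgroup.center (GL (Fin 2) F)) g ∈ G) :
    ¬ ∃ 𝓐 : Finset (Subgroup G), IsNMC 𝓐 := by
  classical
  haveI := Fact.mk hr
  obtain ⟨a, ha⟩ := exists_prime_orderOf_dvd_card (G := Fˣ) r (by
    rw [Fintype.card_units]; exact hrd)
  have har : a ^ r = 1 := ha ▸ pow_orderOf_eq_one a
  have n3 : a ≠ a⁻¹ := by
    intro h
    have h1 : a ^ 2 = 1 := by rw [sq]; nth_rewrite 2 [h]; exact mul_inv_cancel a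
    have := orderOf_dvd_iff_pow_eq_one.2 h1
    rw [ha] at this
    exact hr2 ((Nat.prime_dvd_prime_iff_eq hr Nat.prime_two).1 this)
  have hd : Function.Injective ![(a : F), (a⁻¹ : Fˣ)] := by
    intro i j
    fin_cases i <;> fin_cases j <;> simp only [Fin.reduceFinMk, Matrix.cons_val, Units.val_inj,
      Fin.zero_eta, Fin.mk_one, Fin.isValue, imp_self] <;> intro h <;> exfalso <;>
      first | exact n3 h | exact n3 h.symm
  have htr : diagEl a ^ r ^ 1 = 1 := by
    apply Units.ext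
    rw [pow_one, Units.val_pow_eq_pow_val]
    simp only [diagEl, Matrix.diagonal_pow, Units.val_one]
    rw [← Matrix.diagonal_one]
    congr 1
    have har' : (a : F) ^ r = 1 := by rw [← Units.val_pow_eq_pow_val, har, Units.val_one]
    ext i
    fin_cases i <;> simp [har']
  have hr3 : Fintype.card (Fin 2) < r := by
    have := hr.two_le
    simp only [Fintype.card_fin]
    omega
  refine not_exists_isNMC_of_conj (QuotientGroup.mk' _) (QuotientGroup.mk'_surjective _)
    (by rw [QuotientGroup.ker_mk']) G (x := diagEl a) (u := upEl F) (s := lowEl F)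
    (hG _ (det_diagEl a)) (hG _ det_upEl) (hG _ det_lowEl)
    (D := lineStab F 0 ⊓ lineStab F 1) (H := lineStab F 0) inf_le_left
    (by rw [QuotientGroup.ker_mk']; exact center_le_lineStab 0) ?_ ?_ ?_ ?_
  · rw [mem_lineStab]
    intro j hj
    fin_cases j <;> simp_all [upEl]
  · rw [mem_lineStab]
    intro h
    have := h 1 (by decide)
    simp [lowEl] at this
  · intro A hA htA
    exact le_inf (le_lineStab_of_diagonal hd rfl hr htr hr3 hA htA 0)
      (le_lineStab_of_diagonal hd rfl hr htr hr3 hA htA 1)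
  · intro h
    have := mem_lineStab.1 h.2 0 (by decide)
    rw [upEl_conj] at this
    simp [diagEl] at this
    apply n3
    apply Units.ext
    simp only [Units.val_inv_eq_inv_val]
    linear_combination -this

theorem not_exists_isNMC_two_of_two_pow [Fintype F] {k : ℕ} (hk : 2 ≤ k)
    (hq : Fintype.card F - 1 = 2 ^ k)
    (G : Subgroup (GL (Fin 2) F ⧸ Subgroup.center (GL (Fin 2) F)))
    (hG : ∀ g : GL (Fin 2) F, (g : Matrix (Fin 2) (Fin 2) F).det = 1 →
      QuotientGroup.mk' (Subgroup.center (GL (Fin 2) F)) g ∈ G) :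
    ¬ ∃ 𝓐 : Finset (Subgroup G), IsNMC 𝓐 := by
  classical
  rintro ⟨𝓐, h𝓐⟩
  set π := QuotientGroup.mk' (Subgroup.center (GL (Fin 2) F)) with hπ
  have hker : π.ker ≤ Subgroup.center (GL (Fin 2) F) := by rw [hπ, QuotientGroup.ker_mk']
  obtain ⟨p, hp⟩ := CharP.exists F
  have hpp : p.Prime := CharP.char_is_prime F p
  have hq1 : Fintype.card F = 2 ^ k + 1 := by
    have := Fintype.card_pos (α := F)
    omega
  have h4k : 4 ≤ 2 ^ k := by
    calc 4 = 2 ^ 2 := by norm_num
      _ ≤ _ := Nat.pow_le_pow_right (by norm_num) hk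
  have h4d : 4 ∣ 2 ^ k := by
    have := pow_dvd_pow 2 hk
    simpa using this
  have hp2 : p ≠ 2 := by
    rintro rfl
    have := FiniteField.even_card_iff_char_two.1 (ringChar.eq F 2)
    omega
  have h2 : (2 : F) ≠ 0 := by
    intro h
    have := (CharP.cast_eq_zero_iff F p 2).1 (by exact_mod_cast h)
    exact hp2 ((Nat.prime_dvd_prime_iff_eq hpp Nat.prime_two).1 this)
  -- anchors
  let Ω : Set (GL (Fin 2) F) := {s | (orderOf s).Prime ∧ orderOf s ≠ 2}
  have hcop : ∀ {r : ℕ}, r.Prime → r ≠ 2 → ∀ j : ℕ, (r ^ j).Coprime (Fintype.card F - 1) := by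
    intro r hr hr2 j
    rw [hq]
    exact Nat.Coprime.pow _ _ ((Nat.coprime_primes hr Nat.prime_two).2 hr2)
  have hΩpow : ∀ s ∈ Ω, s ^ (Fintype.card F - 1) ≠ 1 := by
    intro s hs h
    have h1 := orderOf_dvd_iff_pow_eq_one.2 h
    have h3 := hcop hs.1 hs.2 1
    rw [pow_one] at h3
    exact hs.1.ne_one (Nat.Coprime.eq_one_of_dvd h3 h1)
  have hΩc : ∀ s ∈ Ω, s ∉ Subgroup.center (GL (Fin 2) F) := fun s hs h =>
    hΩpow s hs (pow_card_sub_one_of_center h)
  have hΩdet : ∀ s ∈ Ω, s.1.det = 1 := by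
    intro s hs
    have h1 : (Matrix.GeneralLinearGroup.det s) ^ orderOf s = 1 := by
      rw [← map_pow, pow_orderOf_eq_one, map_one]
    have h3 : (Matrix.GeneralLinearGroup.det s) ^ (Fintype.card F - 1) = 1 := by
      rw [← Fintype.card_units]; exact pow_card_eq_one
    have h4 := (pow_gcd_eq_one (a := Matrix.GeneralLinearGroup.det s)).2 ⟨h1, h3⟩
    have h5 := hcop hs.1 hs.2 1
    rw [pow_one] at h5
    rw [h5, pow_one] at h4
    exact congrArg Units.val h4
  have hΩcomm : ∀ A : Subgroup (GL (Fin 2) F), Group.IsNilpotent A → ∀ s ∈ Ω, ∀ t ∈ Ω, s ∈ A →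
      t ∈ A → Commute s t := by
    intro A hA s hs t ht hsA htA
    by_cases hst : orderOf s = orderOf t
    · haveI := Fact.mk hs.1
      have hP : IsPGroup (orderOf s) (Subgroup.closure ({s, t} : Set (GL (Fin 2) F))) := by
        refine L.isPGroup_closure_of_isNilpotent hs.1 (K := A) ?_ ?_
        · rintro x (rfl | rfl)
          · exact hsA
          · exact htA
        · rintro x (rfl | rfl)
          · exact ⟨1, by rw [pow_one, pow_orderOf_eq_one]⟩
          · exact ⟨1, by rw [pow_one, hst, pow_orderOf_eq_one]⟩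
      have hsP : s ∈ Subgroup.closure ({s, t} : Set (GL (Fin 2) F)) :=
        Subgroup.subset_closure (by simp)
      have htP : t ∈ Subgroup.closure ({s, t} : Set (GL (Fin 2) F)) :=
        Subgroup.subset_closure (by simp)
      haveI : Nontrivial (Subgroup.closure ({s, t} : Set (GL (Fin 2) F))) :=
        ⟨⟨⟨s, hsP⟩, 1, fun h => hΩc s hs (by
          rw [show s = 1 from congrArg Subtype.val h]; exact Subgroup.one_mem _)⟩⟩
      haveI := hP.center_nontrivial
      obtain ⟨z, hz⟩ := exists_ne (1 : Subgroup.center (Subgroup.closure ({s, t} : Set (GL (Fin 2) F))))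
      have hzc : (z.1.1 : GL (Fin 2) F) ∉ Subgroup.center (GL (Fin 2) F) := by
        intro h
        obtain ⟨j, hj⟩ := hP z.1
        have h1 : z.1.1 ^ orderOf s ^ j = 1 := congrArg Subtype.val hj
        have h3 := (pow_gcd_eq_one (a := z.1.1)).2 ⟨h1, pow_card_sub_one_of_center h⟩
        rw [hcop hs.1 hs.2 j, pow_one] at h3
        exact hz (Subtype.ext (Subtype.ext h3))
      exact commute_of_commute_noncentral hzc
        (congrArg Subtype.val (Subgroup.mem_center_iff.1 z.2 ⟨s, hsP⟩))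
        (congrArg Subtype.val (Subgroup.mem_center_iff.1 z.2 ⟨t, htP⟩))
    · exact commute_of_coprime_of_isNilpotent hA hsA htA ((Nat.coprime_primes hs.1 ht.1).2 hst)
        (pow_orderOf_eq_one s) (pow_orderOf_eq_one t)
  let K : GL (Fin 2) F → Subgroup (GL (Fin 2) F) := fun s =>
    Subgroup.normalizer ((Subgroup.centralizer ({s} : Set (GL (Fin 2) F)) :
      Subgroup (GL (Fin 2) F)) : Set (GL (Fin 2) F))
  have hcov : ∀ g : GL (Fin 2) F, ∃ s ∈ Ω, g ∈ K s := by
    intro g
    by_cases hg : ∀ (v : Fin 2 → F) (c : F), g.1 *ᵥ v = c • v → v = 0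
    · have h1 := card_centralizer_of_no_eigenvector hg
      obtain ⟨m, hm⟩ := h4d
      obtain ⟨r, hr, hrd⟩ := Nat.exists_prime_and_dvd (n := 2 * m + 1) (by omega)
      haveI := Fact.mk hr
      have hr2 : r ≠ 2 := by rintro rfl; omega
      obtain ⟨s, hs⟩ := exists_prime_orderOf_dvd_card'
        (G := Subgroup.centralizer ({g} : Set (GL (Fin 2) F))) r (by
          rw [h1, hq1, hm]
          refine hrd.trans ⟨8 * m, ?_⟩
          have : (4 * m + 1) ^ 2 = (2 * m + 1) * (8 * m) + 1 := by ring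
          omega)
      have hsΩ : s.1 ∈ Ω := by
        change (orderOf s.1).Prime ∧ orderOf s.1 ≠ 2
        rw [Subgroup.orderOf_coe, hs]
        exact ⟨hr, hr2⟩
      refine ⟨s.1, hsΩ, (mem_normalizer_centralizer_iff (hΩc _ hsΩ)).2 ?_⟩
      rw [← Subgroup.mem_centralizer_singleton_iff.1 s.2, mul_inv_cancel_right]
    · push Not at hg
      obtain ⟨v, c, hvc, hv⟩ := hg
      obtain ⟨s, hs, hsc⟩ := exists_transvection_of_eigenvector hpp hv hvc
      have hsΩ : s ∈ Ω := by
        change (orderOf s).Prime ∧ orderOf s ≠ 2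
        rw [hs]
        exact ⟨hpp, hp2⟩
      exact ⟨s, hsΩ, (mem_normalizer_centralizer_iff (hΩc _ hsΩ)).2 hsc⟩
  -- the redundant member
  obtain ⟨a, ha⟩ := IsCyclic.exists_ofOrder_eq_natCard (α := Fˣ)
  rw [Nat.card_eq_fintype_card, Fintype.card_units, hq] at ha
  have n3 : a ≠ a⁻¹ := by
    intro h
    have h1 : a ^ 2 = 1 := by rw [sq]; nth_rewrite 2 [h]; exact mul_inv_cancel a
    have := Nat.le_of_dvd two_pos (orderOf_dvd_iff_pow_eq_one.2 h1)
    omega
  obtain ⟨A₀, hA₀, htA₀⟩ := h𝓐.1.2 ⟨π (diagEl a), hG _ (det_diagEl a)⟩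
  have hA₀Ω : ∀ s ∈ Ω, s ∉ (A₀.map G.subtype).comap π := by
    intro s hs hsA
    have h1 := hcop hs.1 hs.2 1
    rw [pow_one] at h1
    have h3 := commute_of_coprime_of_isNilpotent (isNilpotent_lift π hker G (h𝓐.2.2 _ hA₀)) hsA
      ((mem_lift_iff π G A₀ (hG _ (det_diagEl a))).2 htA₀) h1 (pow_orderOf_eq_one s)
      (pow_card_sub_one_of_diag (by simp [diagEl]) (by simp [diagEl]))
    rw [gl_commute_two_iff] at h3
    have n4 : (a : F) - (a : F)⁻¹ ≠ 0 := by
      intro h
      apply n3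
      apply Units.ext
      rw [Units.val_inv_eq_inv_val]
      exact sub_eq_zero.1 h
    simp [diagEl, n4] at h3
    exact hΩpow s hs (pow_card_sub_one_of_diag h3.1 h3.2)
  refine h𝓐.false_of_redundant hA₀ (fun A => if h : ∃ s ∈ Ω, s ∈ (A.map G.subtype).comap π then
    ((K h.choose).map π).subgroupOf G else A) ?_ ?_
  · intro A hA _
    split_ifs with h
    · obtain ⟨e, he, hec⟩ := exists_det_one_not_commute_conj h2 (hΩc _ h.choose_spec.1)
      refine subgroupOf_map_ne_top π G (hker.trans (Subgroup.center_le_normalizer _)) (hG e he) ?_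
      rwa [mem_normalizer_centralizer_iff (hΩc _ h.choose_spec.1)]
    · exact h𝓐.1.1 A hA
  · intro g
    obtain ⟨g', hg'⟩ := QuotientGroup.mk'_surjective _ g.1
    obtain ⟨s, hs, hgs⟩ := hcov g'
    obtain ⟨A, hA, hsA⟩ := h𝓐.1.2 ⟨π s, hG _ (hΩdet s hs)⟩
    have hsA' := (mem_lift_iff π G A (hG _ (hΩdet s hs))).2 hsA
    have h : ∃ s ∈ Ω, s ∈ (A.map G.subtype).comap π := ⟨s, hs, hsA'⟩
    refine ⟨A, hA, fun hA' => hA₀Ω s hs (hA' ▸ hsA'), ?_⟩
    rw [dif_pos h]
    refine Subgroup.mem_subgroupOf.2 ⟨g', ?_, hg'⟩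
    have := centralizer_eq_of_commute_noncentral (hΩc _ hs) (hΩc _ h.choose_spec.1)
      (hΩcomm _ (isNilpotent_lift π hker G (h𝓐.2.2 _ hA)) _ hs _ h.choose_spec.1 hsA'
        h.choose_spec.2)
    simp only [K] at hgs ⊢
    rw [← this]
    exact hgs

end Cfsg.Agent.H3
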