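import Mathlib
import Cfsg.Agent.H3.Cover
import Cfsg.Agent.H3.Modular
import Cfsg.Agent.H9.ClassSize
import Cfsg.Agent.H1.Basic

/-! Abelian Sylow subgroups of groups with a nilpotent minimal cover; partitions of abelian
groups. -/

set_option autoImplicit false

namespace Cfsg.Agent.H3

open Subgroup
open scoped Pointwise

variable {G : Type*} [Group G]

theorem pow_eq_one_of_partition {P : Subgroup G} (hP : IsMulCommutative P) (𝓑 : Set (Subgroup G))
    (hprop : ∀ B ∈ 𝓑, ¬ P ≤ B) (hcov : ∀ g ∈ P, ∃ B ∈ 𝓑, g ∈ B)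
    (hdisj : ∀ B ∈ 𝓑, ∀ C ∈ 𝓑, ∀ x ∈ P, x ≠ 1 → x ∈ B → x ∈ C → B = C) {x : G} {p : ℕ}
    (hxP : x ∈ P) (hx1 : x ≠ 1) (hxp : x ^ p = 1) : ∀ g ∈ P, g ^ p = 1 := by
  obtain ⟨B, hB, hxB⟩ := hcov x hxP
  have h1 : ∀ g ∈ P, g ∉ B → g ^ p = 1 := by
    intro g hg hgB
    by_contra hgp
    obtain ⟨C, hC, hgC⟩ := hcov g hg
    obtain ⟨D, hD, hgD⟩ := hcov _ (P.mul_mem hg hxP)
    have e : (g * x) ^ p = g ^ p := by
      rw [Commute.mul_pow (mul_comm_of_mem hP hg hxP), hxp, mul_one]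
    have h2 := hdisj C hC D hD _ (P.pow_mem hg p) hgp (C.pow_mem hgC p) (e ▸ D.pow_mem hgD p)
    subst h2
    exact hgB (hdisj C hC B hB x hxP hx1 ((C.mul_mem_cancel_left hgC).1 hgD) hxB ▸ hgC)
  intro g hg
  by_cases hgB : g ∈ B
  · obtain ⟨h, hh, hhB⟩ := SetLike.not_le_iff_exists.1 (hprop B hB)
    have := h1 _ (P.mul_mem hg hh) (fun hm => hhB ((B.mul_mem_cancel_left hgB).1 hm))
    rwa [Commute.mul_pow (mul_comm_of_mem hP hg hh), h1 h hh hhB, mul_one] at this
  · exact h1 g hg hgB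

theorem mem_sylow_of_mem_normalizer [Finite G] {p : ℕ} [Fact p.Prime] (P : Sylow p G) {x : G}
    {k : ℕ} (hx : x ^ p ^ k = 1) (hxN : x ∈ normalizer ((P : Subgroup G) : Set G)) :
    x ∈ (P : Subgroup G) := by
  have h1 : IsPGroup p (zpowers x) := by
    obtain ⟨j, -, hj⟩ := (Nat.dvd_prime_pow (Fact.out : p.Prime)).1 (orderOf_dvd_of_pow_eq_one hx)
    exact H8.isPGroup_zpowers_of_orderOf hj
  have h2 := h1.to_sup_of_normal_right' P.isPGroup' (zpowers_le.2 hxN)
  rw [← P.is_maximal' h2 le_sup_right]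
  exact mem_sup_left (mem_zpowers x)

/-- A `p`-element is central in each nilpotent subgroup containing it when Sylow `p`-subgroups
are abelian. -/
theorem le_centralizer_of_isNilpotent_of_abelian_sylow [Finite G] {p : ℕ} [hp : Fact p.Prime]
    (P : Sylow p G) (hab : IsMulCommutative (P : Subgroup G)) {A : Subgroup G}
    (hA : Group.IsNilpotent A) {x : G} (hx : x ∈ A) {k : ℕ} (hxk : x ^ p ^ k = 1) :
    A ≤ centralizer ({x} : Set G) := by
  intro g hg
  obtain ⟨a, b, ha, hb, rfl, -, ⟨j, hj⟩, hbp⟩ := H8.exists_pPart_pPrimePart hp.out g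
  have haA : a ∈ A := (zpowers_le.2 hg) ha
  have hbA : b ∈ A := (zpowers_le.2 hg) hb
  refine mul_mem ?_ (mem_centralizer_singleton_iff.2 (commute_of_coprime_of_isNilpotent hA hbA hx
    (hbp.pow_right k) (pow_orderOf_eq_one b) hxk))
  have hP : IsPGroup p (closure ({a, x} : Set G)) := by
    refine L.isPGroup_closure_of_isNilpotent hp.out (K := A) ?_ ?_
    · rintro s (rfl | rfl)
      · exact haA
      · exact hx
    · rintro s (rfl | rfl)
      · exact ⟨j, by rw [← hj, pow_orderOf_eq_one]⟩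
      · exact ⟨k, hxk⟩
  obtain ⟨Q, hQ⟩ := hP.exists_le_sylow
  have hQab : IsMulCommutative (Q : Subgroup G) := by
    constructor
    constructor
    intro u v
    apply (P.equiv Q).symm.injective
    rw [map_mul, map_mul, hab.is_comm.comm]
  exact mem_centralizer_singleton_iff.2
    (mul_comm_of_mem hQab (hQ (subset_closure (by simp))) (hQ (subset_closure (by simp))))

theorem IsNMC.eq_of_mem_of_abelian_sylow [Finite G] (hZ : center G = ⊥) {𝓐 : Finset (Subgroup G)}
    (h : IsNMC 𝓐) {p : ℕ} [hp : Fact p.Prime] (P : Sylow p G)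
    (hab : IsMulCommutative (P : Subgroup G)) {A B : Subgroup G} (hA : A ∈ 𝓐) (hB : B ∈ 𝓐) {x : G}
    {k : ℕ} (hxk : x ^ p ^ k = 1) (hx1 : x ≠ 1) (hxA : x ∈ A) (hxB : x ∈ B) : A = B := by
  refine h.eq_of_le hA hB ?_
    (le_centralizer_of_isNilpotent_of_abelian_sylow P hab (h.2.2 A hA) hxA hxk)
    (le_centralizer_of_isNilpotent_of_abelian_sylow P hab (h.2.2 B hB) hxB hxk)
  intro hc
  rw [centralizer_eq_top_iff_subset, Set.singleton_subset_iff, hZ] at hc
  exact hx1 hc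

theorem IsNMC.centralizer_mem [Finite G] (hZ : center G = ⊥) {𝓐 : Finset (Subgroup G)}
    (h : IsNMC 𝓐) {p : ℕ} [hp : Fact p.Prime] (P : Sylow p G)
    (hab : IsMulCommutative (P : Subgroup G)) (hne : (P : Subgroup G) ≠ ⊥)
    (hP : ¬ (Cfsg.IsElementaryAbelian p (P : Subgroup G) ∧ p < Nat.card (P : Subgroup G))) :
    centralizer ((P : Subgroup G) : Set G) ∈ 𝓐 := by
  have hpow : ∀ x ∈ (P : Subgroup G), ∃ k, x ^ p ^ k = 1 := fun x hx => by
    obtain ⟨k, hk⟩ := P.isPGroup' ⟨x, hx⟩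
    exact ⟨k, congrArg Subtype.val hk⟩
  have hdisj : ∀ B ∈ (𝓐 : Set (Subgroup G)), ∀ C ∈ (𝓐 : Set (Subgroup G)), ∀ x ∈ (P : Subgroup G),
      x ≠ 1 → x ∈ B → x ∈ C → B = C := fun B hB C hC x hx hx1 hxB hxC => by
    obtain ⟨k, hk⟩ := hpow x hx
    exact h.eq_of_mem_of_abelian_sylow hZ P hab hB hC hk hx1 hxB hxC
  obtain ⟨n, hn⟩ := P.isPGroup'.exists_card_eq
  have hn0 : n ≠ 0 := by
    rintro rfl
    exact hne (card_eq_one.1 hn)
  obtain ⟨x, hx⟩ := exists_prime_orderOf_dvd_card' (G := (P : Subgroup G)) p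
    (hn ▸ dvd_pow_self p hn0)
  have hx1 : (x : G) ≠ 1 := by
    intro h1
    rw [show x = 1 from Subtype.ext h1, orderOf_one] at hx
    exact hp.out.ne_one hx.symm
  have hxp : (x : G) ^ p = 1 := orderOf_dvd_iff_pow_eq_one.1 (by rw [Subgroup.orderOf_coe, hx])
  have hex : ∃ A ∈ 𝓐, (P : Subgroup G) ≤ A := by
    by_contra hc
    push Not at hc
    refine hP ⟨⟨hab, pow_eq_one_of_partition hab 𝓐 hc (fun g _ => h.1.2 g) hdisj x.2 hx1 hxp⟩, ?_⟩
    obtain ⟨A, hA, hxA⟩ := h.1.2 x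
    by_contra hlt
    apply hc A hA
    have : zpowers (x : G) = P := eq_of_le_of_card_ge (zpowers_le.2 x.2) (by
      rw [Nat.card_zpowers, Subgroup.orderOf_coe, hx]; omega)
    rw [← this]
    exact zpowers_le.2 hxA
  obtain ⟨A, hA, hPA⟩ := hex
  suffices centralizer ((P : Subgroup G) : Set G) = A from this ▸ hA
  apply le_antisymm
  · intro g hg
    obtain ⟨a, b, ha, hb, rfl, -, ⟨j, hj⟩, hbp⟩ := H8.exists_pPart_pPrimePart hp.out g
    have haC := (zpowers_le.2 hg) ha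
    have hbC := (zpowers_le.2 hg) hb
    refine mul_mem (hPA (mem_sylow_of_mem_normalizer P (k := j) (by rw [← hj, pow_orderOf_eq_one])
      (centralizer_le_normalizer _ haC))) ?_
    obtain ⟨B, hB, hxB⟩ := h.1.2 (x * b)
    have hc : Commute (x : G) b := hbC x x.2
    have hcop : (orderOf (x : G)).Coprime (orderOf b) := by
      rw [Subgroup.orderOf_coe, hx]; exact hbp.symm
    rw [hdisj A hA B hB x x.2 hx1 (hPA x.2)
      (zpowers_le.2 hxB (H9.mem_zpowers_mul_of_coprime hc hcop))]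
    exact zpowers_le.2 hxB (H9.mem_zpowers_mul_of_coprime' hc hcop)
  · intro g hg y hy
    obtain ⟨k, hk⟩ := hpow y hy
    exact (mem_centralizer_singleton_iff.1
      (le_centralizer_of_isNilpotent_of_abelian_sylow P hab (h.2.2 A hA) (hPA hy) hk hg)).symm

theorem IsNMC.sylow_structure [Finite G] (hZ : center G = ⊥) {𝓐 : Finset (Subgroup G)}
    (h : IsNMC 𝓐) {p : ℕ} [hp : Fact p.Prime] (P : Sylow p G)
    (hab : IsMulCommutative (P : Subgroup G)) (hnn : ¬ (P : Subgroup G).Normal)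
    (hP : ¬ (Cfsg.IsElementaryAbelian p (P : Subgroup G) ∧ p < Nat.card (P : Subgroup G))) :
    centralizer ((P : Subgroup G) : Set G) ∈ 𝓐 ∧
    (∀ M : Subgroup G, M ≠ ⊤ → centralizer ((P : Subgroup G) : Set G) ≤ M →
      M ≤ normalizer ((P : Subgroup G) : Set G)) ∧
    IsCoatom (normalizer ((P : Subgroup G) : Set G)) ∧
    ∀ g : G, g ∉ normalizer ((P : Subgroup G) : Set G) →
      ¬ p ∣ Nat.card ↥(normalizer ((P : Subgroup G) : Set G) ⊓
        (normalizer ((P : Subgroup G) : Set G)).map (MulAut.conj g).toMonoidHom) := by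
  have hne : (P : Subgroup G) ≠ ⊥ := fun hb => hnn (hb ▸ inferInstance)
  have hconj : ∀ g : G, ((g • P : Sylow p G) : Subgroup G) =
      (P : Subgroup G).map (MulAut.conj g).toMonoidHom := fun g => rfl
  have habg : ∀ g : G, IsMulCommutative ((g • P : Sylow p G) : Subgroup G) := fun g => by
    rw [hconj]; infer_instance
  have hmem : ∀ g : G, centralizer (((g • P : Sylow p G) : Subgroup G) : Set G) ∈ 𝓐 := by
    intro g
    refine h.centralizer_mem hZ _ (habg g) ?_ ?_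
    · rw [hconj, Ne, Subgroup.map_eq_bot_iff_of_injective _ (MulAut.conj g).injective]
      exact hne
    · rintro ⟨⟨-, h1⟩, h2⟩
      rw [hconj, H1.card_map_conj] at h2
      refine hP ⟨⟨hab, fun a ha => ?_⟩, h2⟩
      have := h1 (g * a * g⁻¹) ⟨a, ha, rfl⟩
      rwa [conj_pow, conj_eq_one_iff] at this
  have hA := h.centralizer_mem hZ P hab hne hP
  have hle : ∀ Q : Sylow p G, IsMulCommutative (Q : Subgroup G) →
      (Q : Subgroup G) ≤ centralizer ((Q : Subgroup G) : Set G) := fun Q hQ => le_centralizer _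
  have key : ∀ g : G, centralizer (((g • P : Sylow p G) : Subgroup G) : Set G) =
      centralizer ((P : Subgroup G) : Set G) → g ∈ normalizer ((P : Subgroup G) : Set G) := by
    intro g hg
    refine Sylow.smul_eq_iff_mem_normalizer.1 ?_
    apply Sylow.ext
    refine (((g • P : Sylow p G).is_maximal' P.isPGroup' ?_)).symm
    intro x hx
    obtain ⟨k, hk⟩ := (g • P : Sylow p G).isPGroup' ⟨x, hx⟩
    exact mem_sylow_of_mem_normalizer P (congrArg Subtype.val hk)
      (centralizer_le_normalizer _ (hg ▸ hle _ (habg g) hx))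
  have hM : ∀ M : Subgroup G, M ≠ ⊤ → centralizer ((P : Subgroup G) : Set G) ≤ M →
      M ≤ normalizer ((P : Subgroup G) : Set G) := by
    intro M hM hCM m hm
    refine key m (h.eq_of_le (hmem m) hA hM ?_ hCM)
    rw [hconj, H1.centralizer_map_conj]
    exact H1.map_conj_le_of_mem hCM hm
  refine ⟨hA, hM, ⟨fun ht => hnn (normalizer_eq_top_iff.1 ht), fun K hK => ?_⟩, ?_⟩
  · by_contra hKt
    exact hK.not_ge (hM K hKt ((centralizer_le_normalizer _).trans hK.le))
  · intro g hg hd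
    obtain ⟨x, hx⟩ := exists_prime_orderOf_dvd_card' p hd
    have hx1 : (x : G) ≠ 1 := by
      intro h1
      rw [show x = 1 from Subtype.ext h1, orderOf_one] at hx
      exact hp.out.ne_one hx.symm
    have hxp : (x : G) ^ p ^ 1 = 1 := by
      rw [pow_one]; exact orderOf_dvd_iff_pow_eq_one.1 (by rw [Subgroup.orderOf_coe, hx])
    refine hg (key g (h.eq_of_mem_of_abelian_sylow hZ P hab (hmem g) hA hxp hx1 ?_ ?_))
    · refine hle _ (habg g) (mem_sylow_of_mem_normalizer _ hxp ?_)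
      rw [hconj, H1.normalizer_map_conj]
      exact x.2.2
    · exact hle _ hab (mem_sylow_of_mem_normalizer _ hxp x.2.1)

end Cfsg.Agent.H3
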