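import Cfsg.Agent.H8.PComplement

/-! Normal `π`-complements from normal `r`-complements. -/

set_option autoImplicit false

namespace Cfsg.Agent.H3

open Subgroup

variable {G : Type*} [Group G]

/-- If `G` has a normal `r`-complement for every prime `r ∈ π` then it has a normal
`π`-complement; if moreover the Sylow `r`-subgroups are abelian for `r ∈ π` then there is an
abelian Hall `π`-subgroup. -/
theorem exists_normal_piComplement [Finite G] (π : Set ℕ)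
    (h : ∀ r ∈ π, r.Prime → Cfsg.HasNormalPComplement r G) :
    ∃ N : Subgroup G, N.Normal ∧ (∀ r : ℕ, r.Prime → r ∣ Nat.card N → r ∉ π) ∧
      (∀ r : ℕ, r.Prime → r ∣ N.index → r ∈ π) ∧
      ((∀ r ∈ π, r.Prime → ∃ P : Sylow r G, IsMulCommutative (P : Subgroup G)) →
        ∃ H : Subgroup G, Cfsg.IsPiHall π H ∧ IsMulCommutative H) := by
  let N : Subgroup G := ⨅ r : {r : ℕ // r ∈ π ∧ r.Prime}, Cfsg.pPrimeCore r G
  haveI hN : N.Normal := normal_iInf_normal fun _ => inferInstance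
  have h1 : ∀ r : ℕ, r.Prime → r ∣ Nat.card N → r ∉ π := by
    intro r hr hd hrπ
    have : Nat.card N ∣ Nat.card (Cfsg.pPrimeCore r G) :=
      card_dvd_of_le (iInf_le (fun r : {r : ℕ // r ∈ π ∧ r.Prime} => Cfsg.pPrimeCore r G) ⟨r, hrπ, hr⟩)
    exact (hr.coprime_iff_not_dvd.mp (L.coprime_card_pPrimeCore r).symm) (hd.trans this)
  have h2 : ∀ r : ℕ, r.Prime → r ∣ N.index → r ∈ π := by
    intro q hq hd
    by_contra hqπ
    haveI := Fact.mk hq
    obtain ⟨Q⟩ : Nonempty (Sylow q G) := inferInstance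
    refine Q.not_dvd_index (hd.trans (index_dvd_of_le (le_iInf ?_)))
    rintro ⟨r, hrπ, hr⟩ x hx
    haveI := Fact.mk hr
    obtain ⟨k, hk⟩ := H8.exists_orderOf_eq_pow_of_mem Q.isPGroup' hx
    refine H8.hasNPC_iff_forall_mem_pPrimeCore.mp (h r hrπ hr) x ?_
    rw [hk]
    exact ((Nat.coprime_primes hq hr).mpr (by rintro rfl; exact hqπ hrπ)).pow_left k
  refine ⟨N, hN, h1, h2, fun hab => ?_⟩
  obtain ⟨H, hH⟩ := exists_right_complement'_of_coprime (N := N)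
    (Nat.coprime_of_dvd fun r hr hd hd' => h1 r hr hd (h2 r hr hd'))
  refine ⟨H, ⟨fun r hr hd => h2 r hr (hH.symm.index_eq_card ▸ hd),
    fun r hr hrπ hd => h1 r hr (hH.index_eq_card ▸ hd) hrπ⟩, ⟨⟨fun a b => ?_⟩⟩⟩
  have h3 : (a : G) * (b : G) * (a : G)⁻¹ * (b : G)⁻¹ ∈ N := by
    rw [mem_iInf]
    rintro ⟨r, hrπ, hr⟩
    haveI := Fact.mk hr
    obtain ⟨P, hP⟩ := hab r hrπ hr
    have h4 : ∀ g : G, ∃ u ∈ (P : Subgroup G), QuotientGroup.mk' (Cfsg.pPrimeCore r G) u =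
        QuotientGroup.mk' (Cfsg.pPrimeCore r G) g := by
      intro g
      have h5 : g ∈ (P : Subgroup G) ⊔ Cfsg.pResidual r G := by
        rw [H8.sylow_sup_pResidual]; trivial
      rw [H8.hasNPC_iff_pResidual_eq_pPrimeCore.mp (h r hrπ hr), ← SetLike.mem_coe,
        mul_normal] at h5
      obtain ⟨u, hu, n, hn, rfl⟩ := h5
      exact ⟨u, hu, by simp [(QuotientGroup.eq_one_iff n).mpr hn]⟩
    obtain ⟨u, hu, hu'⟩ := h4 a
    obtain ⟨v, hv, hv'⟩ := h4 b
    have huv : u * v = v * u := congrArg Subtype.val (hP.is_comm.comm ⟨u, hu⟩ ⟨v, hv⟩)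
    rw [← QuotientGroup.eq_one_iff, ← QuotientGroup.mk'_apply]
    simp only [map_mul, map_inv, ← hu', ← hv']
    rw [← map_mul, huv, map_mul]
    group
  have h5 : (a : G) * (b : G) * (a : G)⁻¹ * (b : G)⁻¹ ∈ N ⊓ H :=
    ⟨h3, H.mul_mem (H.mul_mem (H.mul_mem a.2 b.2) (H.inv_mem a.2)) (H.inv_mem b.2)⟩
  rw [hH.disjoint.eq_bot, mem_bot, mul_inv_eq_one, mul_inv_eq_iff_eq_mul] at h5
  exact Subtype.ext h5

end Cfsg.Agent.H3
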